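import Groth.Agent.SSMod.K971.SsLocus
import Groth.Prelude.Def_Curv2
import Groth.Prelude.Def_CohB1

/-!
# Interfaces for the contraction of exceptional components (S15280, S15281)

Everything is stated as a `Prop`; nothing is assumed.

* `ContrLoc`: the goal: a semistable eta-isomorphic modification of an affine multipointed curve over a valuation ring
  of finite height with algebraically closed fraction field gives a stable one locally on `C`.
* `Glue`: stable modifications glue (from S15274).
* `TData`: an exceptional component of a geometric fibre over a point specialising to `c` in the closed fibre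
  gives a contractible closed subset of the fibre over `c`.
* `GG`, `Div`, `Fin`: the ingredients of the construction of the contraction.
-/

set_option autoImplicit false
universe u
open CategoryTheory CategoryTheory.Limits AlgebraicGeometry TopologicalSpace

namespace K755.SSPlan

/-- From semistable to stable, locally on `C`. -/
def ContrLoc : Prop := ∀ (R : Type u) [CommRing R] [IsDomain R] [ValuationRing R] [Finite (PrimeSpectrum R)]
    [IsAlgClosed (FractionRing R)]
    {C D C' D' : Scheme.{u}} [IsAffine C] (φ : C ⟶ Spec (CommRingCat.of R)) (i : D ⟶ C)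
    (_ : SSMod.IsMPCurve φ i)
    (i' : D' ⟶ C') (gC : C' ⟶ C) (gD : D' ⟶ D) (_ : SSMod.IsSemistableModification φ i i' gC gD)
    (_ : SSMod.IsEtaIso φ gC) (_ : SSMod.IsEtaIso (i ≫ φ) gD) (c : C),
    ∃ V : C.Opens, c ∈ V ∧
      ∃ (CV DV : Scheme.{u}) (iV : DV ⟶ CV) (fV : CV ⟶ V) (fDV : DV ⟶ (i ⁻¹ᵁ V : D.Opens)),
        SSMod.IsStableModification (V.ι ≫ φ) (i ∣_ V) iV fV fDV ∧
        SSMod.IsEtaIso (V.ι ≫ φ) fV ∧ SSMod.IsEtaIso ((i ∣_ V) ≫ V.ι ≫ φ) fDV

/-- GLUE: stable modifications glue along an open cover of `C` (`K971.SSUses.Uniq` is the frozen statement S15274). -/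
def Glue : Prop := K971.SSUses.Uniq.{u} →
    ∀ {S C D : Scheme.{u}} [IsIntegral S] [CompactSpace S] [QuasiSeparatedSpace S]
      (_ : Pi1.IsNormalScheme S) (φ : C ⟶ S) (i : D ⟶ C) (_ : SSMod.IsMPCurve φ i)
      (_ : ∀ c : C, ∃ V : C.Opens, c ∈ V ∧
        ∃ (CV DV : Scheme.{u}) (iV : DV ⟶ CV) (fV : CV ⟶ V) (fDV : DV ⟶ (i ⁻¹ᵁ V : D.Opens)),
          SSMod.IsStableModification (V.ι ≫ φ) (i ∣_ V) iV fV fDV ∧
          SSMod.IsEtaIso (V.ι ≫ φ) fV ∧ SSMod.IsEtaIso ((i ∣_ V) ≫ V.ι ≫ φ) fDV),
      ∃ (Cst Dst : Scheme.{u}) (ist : Dst ⟶ Cst) (fC : Cst ⟶ C) (fD : Dst ⟶ D),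
        SSMod.IsStableModification φ i ist fC fD ∧ SSMod.IsEtaIso φ fC ∧
          SSMod.IsEtaIso (i ≫ φ) fD

/-- TDATA: `Z` exceptional in a geometric fibre of `X → S`, mapped to a point of `V` specialising to `c` in the
closed fibre. Then the fibre over `c` contains a closed subset `T` (the closed fibre of the closure of `Z`), a connected
union of one-dimensional components with `H¹(T, O) = 0` which carries at most two points which are marked or lie on the
rest of the closed fibre. -/
def TData : Prop := ∀ (R : Type u) [CommRing R] [IsDomain R] [ValuationRing R]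
    [IsAlgClosed (FractionRing R)]
    {V X D' : Scheme.{u}} [IsAffine V] (φ : V ⟶ Spec (CommRingCat.of R)) [LocallyOfFinitePresentation φ]
    (f : X ⟶ V) [IsProper f] (i' : D' ⟶ X) (_ : SSMod.IsSemistable (f ≫ φ) i')
    (Ω : Type u) [Field Ω] [IsAlgClosed Ω] (g : Spec (CommRingCat.of Ω) ⟶ Spec (CommRingCat.of R))
    (Z : Set (↥(pullback (f ≫ φ) g) : Type u)) (_ : Z ∈ irreducibleComponents (↥(pullback (f ≫ φ) g) : Type u))
    (_ : SSMod.IsExcComp Ω (CInt.baseChangeOver f φ g) (pullback.snd (f ≫ φ) g)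
      ((pullback.fst (f ≫ φ) g).base ⁻¹' Set.range (i'.base : D' → X)) Z)
    (c : V) (_ : φ c = IsLocalRing.closedPoint R)
    (_ : ∀ x ∈ Z, f (pullback.fst (f ≫ φ) g x) ⤳ c),
    ∃ (T : Set X) (hT : IsClosed T), T.Nonempty ∧ T ⊆ f ⁻¹' {c} ∧ _root_.IsPreconnected T ∧
      (∀ x ∈ T, ∃ ξ ∈ T, ξ ⤳ x ∧ ¬ IsClosed ({ξ} : Set X)) ∧
      Subsingleton (Coh.HH (Scheme.IdealSheafData.vanishingIdeal (⟨T, hT⟩ : Closeds X)).subscheme
        (Coh.structureModule (Scheme.IdealSheafData.vanishingIdeal (⟨T, hT⟩ : Closeds X)).subscheme) 1) ∧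
      {x : X | x ∈ T ∧ (x ∈ closure ((f ≫ φ) ⁻¹' {IsLocalRing.closedPoint R} \ T) ∨
        x ∈ Set.range (i'.base : D' → X))}.encard ≤ 2

/-- GG: an invertible module on a proper family of dimension `≤ 1` with a section vanishing along a closed
subset finite over the base has a globally generated positive power (arbitrary affine base). -/
def GG : Prop := ∀ {A : Type u} [CommRing A] {X : Scheme.{u}} (f : X ⟶ Spec (CommRingCat.of A))
    [IsProper f] [LocallyOfFinitePresentation f]
    (_ : ∀ y : Spec (CommRingCat.of A), topologicalKrullDim ↥(f.fiber y) ≤ 1)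
    {L : X.Modules} (_ : PicF.IsInvertible L) (s : Coh.structureModule X ⟶ L)
    (_ : ∀ y : Spec (CommRingCat.of A), (f ⁻¹' {y} \ (CohB1.genLocus L s : Set X)).Finite),
    ∃ n : ℕ, 0 < n ∧ Curv2.IsGloballyGenerated (CohB1.tensorPow L n)

/-- DIV: over a valuation ring with algebraically closed fraction field, a relative curve has, through every closed
point of its closed fibre at which it is smooth, an effective Cartier divisor (a section of the base). -/
def Div : Prop := ∀ (R : Type u) [CommRing R] [IsDomain R] [ValuationRing R] [IsAlgClosed (FractionRing R)]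
    {X : Scheme.{u}} (p : X ⟶ Spec (CommRingCat.of R)) [IsSeparated p] [LocallyOfFinitePresentation p]
    [QuasiCompact p] (_ : Cyc.HasRelDim p 1) (U : X.Opens) (_ : Smooth (U.ι ≫ p)) (x : X) (_ : x ∈ U)
    (_ : IsClosed ({x} : Set X)) (_ : p x = IsLocalRing.closedPoint R),
    ∃ (L : X.Modules) (s : Coh.structureModule X ⟶ L), PicF.IsInvertible L ∧
      x ∉ CohB1.genLocus L s ∧ (∀ y : X, y ∉ CohB1.genLocus L s → y ⤳ x) ∧
      ∀ q : Spec (CommRingCat.of R), (p ⁻¹' {q} \ (CohB1.genLocus L s : Set X)).Finite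

/-- FIN: over a valuation ring of finite height with algebraically closed fraction field, the Stein factorization
of a proper morphism from a nodal family to a scheme locally of finite type is finite over the target. -/
def Fin : Prop := ∀ (R : Type u) [CommRing R] [IsDomain R] [ValuationRing R] [Finite (PrimeSpectrum R)]
    [IsAlgClosed (FractionRing R)]
    {X P : Scheme.{u}} (p : X ⟶ Spec (CommRingCat.of R)) (_ : Curv2.IsNodalFamily p)
    (r : P ⟶ Spec (CommRingCat.of R)) [LocallyOfFiniteType r] (ψ : X ⟶ P) [IsProper ψ] (_ : ψ ≫ r = p),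
    IsFinite ψ.fromNormalization

end K755.SSPlan
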