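import Groth.Agent.S1367
import Mathlib.Topology.Separation.Basic

/-!
# `H¹` of the fibres vanishes near a fibre of a proper morphism
-/

set_option autoImplicit false
universe u
open CategoryTheory CategoryTheory.Limits AlgebraicGeometry TopologicalSpace

namespace K755.Acyc

open Groth.Agent

variable {V X Y : Scheme.{u}}

theorem HH_fiber_of_mem {T X'' X' Y' : Scheme.{u}} (f : X ⟶ Y) [IsProper f] [IsAffine T] (j : T ⟶ Y)
    [IsOpenImmersion j] {g' : X'' ⟶ X} {h : X'' ⟶ T} (hpb : IsPullback g' h f j)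
    (hd : ∀ t : T, topologicalKrullDim ↥(f.fiber (j t)) ≤ 1)
    (h1 : Subsingleton (Coh.HH X'' (Coh.structureModule X'') 1)) {kX : X' ⟶ X} {f' : X' ⟶ Y'} {kY : Y' ⟶ Y}
    (sq : IsPullback kX f' f kY) (y : Y') (hy : kY y ∈ j.opensRange) :
    Subsingleton (Coh.HH (f'.fiber y) (Coh.structureModule (f'.fiber y)) 1) := by
  have hp : IsProper h := MorphismProperty.of_isPullback hpb ‹IsProper f›
  let a := Y'.fromSpecResidueField y ≫ kY
  have ha : Set.range a ⊆ Set.range j := by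
    rintro _ ⟨z, rfl⟩
    have h2 : Y'.fromSpecResidueField y z = y := by
      have h3 : Y'.fromSpecResidueField y z ∈ Set.range (Y'.fromSpecResidueField y) := ⟨z, rfl⟩
      rw [Scheme.range_fromSpecResidueField] at h3
      exact h3
    change (Y'.fromSpecResidueField y ≫ kY) z ∈ _
    rw [Scheme.Hom.comp_apply, h2]
    exact hy
  let l := IsOpenImmersion.lift j a ha
  have hl : l ≫ j = a := IsOpenImmersion.lift_fac j a ha
  have H0 : IsPullback (f'.fiberι y ≫ kX) (f'.fiberToSpecResidueField y) f a :=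
    (IsPullback.of_hasPullback f' (Y'.fromSpecResidueField y)).paste_horiz sq
  have hw : (f'.fiberι y ≫ kX) ≫ f = (f'.fiberToSpecResidueField y ≫ l) ≫ j := by
    rw [H0.w, Category.assoc, hl]
  have H4 : IsPullback (hpb.lift (f'.fiberι y ≫ kX) (f'.fiberToSpecResidueField y ≫ l) hw)
      (f'.fiberToSpecResidueField y) h l := by
    refine IsPullback.of_right (h₁₂ := g') ?_ (hpb.lift_snd _ _ _) hpb
    rw [hpb.lift_fst, hl]
    exact H0
  have hd' : ∀ t : T, topologicalKrullDim ↥(h.fiber t) ≤ (1 : ℕ) := fun t => by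
    rw [Flat2G.ProperDim.topologicalKrullDim_fiber_baseChange f h g' j hpb t]
    exact hd t
  exact Flat2G.H1BaseChange.subsingleton_H_baseChange H4 1 hd' h1

/-- `H¹` of the fibres vanishes near the fibre over `c`, if it vanishes at the closed points over `c`. -/
theorem exists_opens [CompactSpace Y] (σ : X ⟶ Y) (g : Y ⟶ V) [IsProper σ]
    (hdim : ∀ y : Y, topologicalKrullDim ↥(σ.fiber y) ≤ 1) (c : V) (hc : IsClosed ({c} : Set V))
    (h : ∀ y : Y, g y = c → IsClosed ({y} : Set Y) →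
      Subsingleton (Coh.HH (σ.fiber y) (Coh.structureModule (σ.fiber y)) 1)) :
    ∃ N : Y.Opens, (∀ y : Y, g y = c → y ∈ N) ∧
      ∀ {X' Y' : Scheme.{u}} {kX : X' ⟶ X} {σ' : X' ⟶ Y'} {kY : Y' ⟶ Y} (_ : IsPullback kX σ' σ kY) (y : Y'),
        kY y ∈ N → Subsingleton (Coh.HH (σ'.fiber y) (Coh.structureModule (σ'.fiber y)) 1) := by
  have key : ∀ y : Y, g y = c → ∃ N : Y.Opens, y ∈ N ∧
      ∀ {X' Y' : Scheme.{u}} {kX : X' ⟶ X} {σ' : X' ⟶ Y'} {kY : Y' ⟶ Y} (_ : IsPullback kX σ' σ kY) (y : Y'),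
        kY y ∈ N → Subsingleton (Coh.HH (σ'.fiber y) (Coh.structureModule (σ'.fiber y)) 1) := by
    intro y hy
    obtain ⟨y', hy', hycl⟩ := (isClosed_closure (s := ({y} : Set Y))).exists_closed_singleton ⟨y, subset_closure rfl⟩
    have hsub : closure ({y} : Set Y) ⊆ g ⁻¹' {c} :=
      (hc.preimage g.continuous).closure_subset_iff.2 (Set.singleton_subset_iff.2 hy)
    obtain ⟨T, hT, j, hj, X'', g', h', hpb, hyj, hd, h1⟩ := S1367.main σ y' (hdim y') (h y' (hsub hy') hycl)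
    refine ⟨j.opensRange, ?_, fun sq z hz => HH_fiber_of_mem σ j hpb hd h1 sq z hz⟩
    exact (specializes_iff_mem_closure.2 hy').mem_open j.opensRange.2 hyj
  choose N hN hN' using key
  refine ⟨⨆ (y : Y) (hy : g y = c), N y hy, fun y hy => ?_, fun sq y hy => ?_⟩
  · exact Opens.mem_iSup.2 ⟨y, Opens.mem_iSup.2 ⟨hy, hN y hy⟩⟩
  · obtain ⟨z, hz⟩ := Opens.mem_iSup.1 hy
    obtain ⟨hz, hyz⟩ := Opens.mem_iSup.1 hz
    exact hN' z hz sq y hyz

end K755.Acyc
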