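import Groth.Agent.SSMod.K755.Plan5

/-!
# The statement NODAL
-/

set_option autoImplicit false
universe u
open CategoryTheory CategoryTheory.Limits AlgebraicGeometry TopologicalSpace

namespace K755.SSPlan

/-- NODAL: the contraction of `T` (with `H¹(T, O) = 0` and at most two special points) is semistable near `c`. -/
def Nodal : Prop := ∀ (R : Type u) [CommRing R] [IsDomain R] [ValuationRing R] [IsAlgClosed (FractionRing R)]
    {V X Y D : Scheme.{u}} [IsAffine V] (φ : V ⟶ Spec (CommRingCat.of R)) [LocallyOfFinitePresentation φ]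
    (σ : X ⟶ Y) (g : Y ⟶ V) (i : D ⟶ X) (_ : SSMod.IsSemistable (σ ≫ g ≫ φ) i)
    (_ : SSMod.IsEtaIso φ (σ ≫ g)) (_ : Ctn φ (σ ≫ g) σ g)
    (c : V) (_ : φ c = IsLocalRing.closedPoint R) (_ : IsClosed ({c} : Set V))
    (y₀ : Y) (T : Set X) (hT : IsClosed T) (_ : σ ⁻¹' {y₀} = T) (_ : T.Nonempty)
    (_ : ∀ x ∈ T, g (σ x) = c)
    (_ : ∀ x ∈ T, ∃ ξ ∈ T, ξ ⤳ x ∧ ¬ IsClosed ({ξ} : Set X))
    (_ : Subsingleton (Coh.HH (Scheme.IdealSheafData.vanishingIdeal (⟨T, hT⟩ : Closeds X)).subscheme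
      (Coh.structureModule (Scheme.IdealSheafData.vanishingIdeal (⟨T, hT⟩ : Closeds X)).subscheme) 1))
    (_ : {x : X | x ∈ T ∧ (x ∈ closure ((σ ≫ g ≫ φ) ⁻¹' {IsLocalRing.closedPoint R} \ T) ∨
      x ∈ Set.range (i.base : D → X))}.encard ≤ 2)
    (_ : ∀ y : Y, g y = c → y ≠ y₀ → IsClosed ({y} : Set Y) → ∃ x : X, σ ⁻¹' {y} = {x})
    (_ : ∀ x x' : X, x ⤳ x' → x' ≠ x → φ (g (σ x)) = IsLocalRing.closedPoint R → g (σ x) ⤳ c),
    ∃ (V' : Scheme.{u}) (_ : IsAffine V') (k : V' ⟶ V) (_ : IsOpenImmersion k) (c' : V') (_ : k c' = c)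
      (Y' X' D' : Scheme.{u}) (kY : Y' ⟶ Y) (g' : Y' ⟶ V') (kX : X' ⟶ X) (σ' : X' ⟶ Y') (kD : D' ⟶ D)
      (i' : D' ⟶ X'), IsPullback kY g' g k ∧ IsPullback kX σ' σ kY ∧ IsPullback kD i' i kX ∧
        SSMod.IsSemistable (g' ≫ k ≫ φ) (i' ≫ σ')

end K755.SSPlan
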