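import Mathlib.AlgebraicGeometry.Noetherian
import Mathlib.AlgebraicGeometry.Morphisms.FiniteType
import Mathlib.AlgebraicGeometry.Fiber
import Mathlib.AlgebraicGeometry.Morphisms.Proper

/-!
# Topological lemmas for the contraction
-/

set_option autoImplicit false
universe u
open CategoryTheory CategoryTheory.Limits AlgebraicGeometry TopologicalSpace

namespace K755.TopLem

/-- A Noetherian sober space all of whose points are closed is finite. -/
theorem finite_of_forall_isClosed {Z : Type*} [TopologicalSpace Z] [NoetherianSpace Z] [QuasiSober Z]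
    (h : ∀ z : Z, IsClosed ({z} : Set Z)) : Finite Z := by
  have h1 : (⋃₀ irreducibleComponents Z) = Set.univ := by
    rw [Set.eq_univ_iff_forall]
    exact fun z => ⟨irreducibleComponent z, irreducibleComponent_mem_irreducibleComponents z, mem_irreducibleComponent⟩
  have h2 : (⋃₀ irreducibleComponents Z).Finite := by
    refine NoetherianSpace.finite_irreducibleComponents.sUnion fun C hC => ?_
    obtain ⟨ξ, hξ⟩ := QuasiSober.sober hC.1 (isClosed_of_mem_irreducibleComponents C hC)
    have h3 : C = {ξ} := by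
      rw [← hξ.def, (h ξ).closure_eq]
    rw [h3]
    exact Set.finite_singleton ξ
  rw [h1] at h2
  exact Set.finite_univ_iff.1 h2

/-- A fibre of a proper morphism which consists of closed points is finite. -/
theorem finite_fibre {X Y : Scheme.{u}} (σ : X ⟶ Y) [LocallyOfFiniteType σ] [QuasiCompact σ] (y : Y)
    (h : ∀ x : X, σ x = y → IsClosed ({x} : Set X)) : (σ ⁻¹' {y} : Set X).Finite := by
  have hl : LocallyOfFiniteType (σ.fiberToSpecResidueField y) :=
    inferInstanceAs (LocallyOfFiniteType (pullback.snd σ (Y.fromSpecResidueField y)))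
  have hq : QuasiCompact (σ.fiberToSpecResidueField y) :=
    inferInstanceAs (QuasiCompact (pullback.snd σ (Y.fromSpecResidueField y)))
  have hN : IsLocallyNoetherian (σ.fiber y) :=
    LocallyOfFiniteType.isLocallyNoetherian (σ.fiberToSpecResidueField y)
  have hc : CompactSpace (σ.fiber y) := QuasiCompact.compactSpace_of_compactSpace (σ.fiberToSpecResidueField y)
  have hN' : IsNoetherian (σ.fiber y) := {}
  have h1 : Finite (σ.fiber y) := finite_of_forall_isClosed fun z => by
    have h2 := (h (σ.fiberι y z) (by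
      have h3 : σ.fiberι y z ∈ Set.range (σ.fiberι y) := ⟨z, rfl⟩
      rw [Scheme.Hom.range_fiberι] at h3
      exact h3)).preimage (σ.fiberι y).continuous
    have h4 : σ.fiberι y ⁻¹' {σ.fiberι y z} = {z} := by
      ext w
      exact ⟨fun hw => (σ.fiberι y).isEmbedding.injective hw, fun hw => congrArg _ hw⟩
    rwa [h4] at h2
  have h5 : Set.range (σ.fiberι y) = σ ⁻¹' {y} := Scheme.Hom.range_fiberι σ y
  rw [← h5]
  exact Set.finite_range _

/-- Over an affine base, a neighbourhood of a closed fibre of a closed map contains the preimage of a basic open. -/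
theorem exists_basicOpen {Y V : Scheme.{u}} [IsAffine V] (g : Y ⟶ V) (hg : IsClosedMap g) (c : V) (N : Y.Opens)
    (hN : ∀ y : Y, g y = c → y ∈ N) : ∃ a : Γ(V, ⊤), c ∈ V.basicOpen a ∧ ∀ y : Y, g y ∈ V.basicOpen a → y ∈ N := by
  let W : V.Opens := ⟨(g '' (N : Set Y)ᶜ)ᶜ, (hg _ N.2.isClosed_compl).isOpen_compl⟩
  have hcW : c ∈ W := by
    rintro ⟨y, hy, hyc⟩
    exact hy (hN y hyc)
  obtain ⟨a, ha1, ha2⟩ := (isAffineOpen_top V).exists_basicOpen_le (V := W) ⟨c, hcW⟩ (Set.mem_univ _)
  refine ⟨a, ha2, fun y hy => ?_⟩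
  by_contra hcon
  exact ha1 hy ⟨y, hcon, rfl⟩

end K755.TopLem
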