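import Groth.Agent.SSMod.K755.Nodal1
import Groth.Agent.SSMod.K755.NodalStmt
import Groth.Agent.SSMod.K755.Acyc
import Groth.Agent.SSMod.K755.TopLem
import Groth.Agent.CurvSt.K897.SteinAcyc
import Groth.Agent.CurvSt.K897.FibreVan
import Groth.Agent.SSMod.K122.ValBase
import Groth.Agent.SSMod.K971.RestrictCurve
import Groth.Agent.Pi1A.SteinEtale
import Groth.Agent.S0007

/-!
# NODAL: the contraction of `T` is semistable near `c`
-/

set_option autoImplicit false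
universe u
open CategoryTheory CategoryTheory.Limits AlgebraicGeometry TopologicalSpace

namespace K755.Nodal

open Groth.Agent SSPlan Nodal1

theorem isClosed_closedPoint (R : Type u) [CommRing R] [IsLocalRing R] :
    IsClosed ({IsLocalRing.closedPoint R} : Set (Spec (CommRingCat.of R))) :=
  IsLocalRing.isClosed_singleton_closedPoint R

theorem nodal1 (hK : NodalK.{u}) (hS : SSOpen.{u}) (hM : MarkImm.{u}) (hE : EtaY.{u})
    (R : Type u) [CommRing R] [IsDomain R] [ValuationRing R] [IsAlgClosed (FractionRing R)]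
    {V X Y D : Scheme.{u}} [IsAffine V] (φ : V ⟶ Spec (CommRingCat.of R)) [LocallyOfFinitePresentation φ]
    (σ : X ⟶ Y) (g : Y ⟶ V) (i : D ⟶ X) (hss : SSMod.IsSemistable (σ ≫ g ≫ φ) i)
    (hη : SSMod.IsEtaIso φ (σ ≫ g)) (hC : Ctn φ (σ ≫ g) σ g)
    (c : V) (hc : φ c = IsLocalRing.closedPoint R) (hcl : IsClosed ({c} : Set V))
    (y₀ : Y) (hy₀ : IsClosed ({y₀} : Set Y)) (hgy : g y₀ = c)
    (hH : ∀ y : Y, Subsingleton (Coh.HH (σ.fiber y) (Coh.structureModule (σ.fiber y)) 1))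
    (hgen : ∀ x, σ x = y₀ → ∃ ξ, σ ξ = y₀ ∧ ξ ⤳ x ∧ ¬ IsClosed ({ξ} : Set X))
    (hfin : ∀ y : Y, φ (g y) = IsLocalRing.closedPoint R → IsClosed ({y} : Set Y) → y ≠ y₀ →
      (σ ⁻¹' {y} : Set X).Finite)
    (hout : {x : X | σ x = y₀ ∧ (x ∈ closure ((σ ≫ g ≫ φ) ⁻¹' {IsLocalRing.closedPoint R} \ σ ⁻¹' {y₀}) ∨
      x ∈ Set.range (i.base : D → X))}.encard ≤ 2) :
    ∃ U : V.Opens, IsAffineOpen U ∧ c ∈ U ∧ SSMod.IsSemistable ((g ∣_ U) ≫ U.ι ≫ φ) ((i ≫ σ) ∣_ (g ⁻¹ᵁ U)) := by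
  have hpσ := hC.proper_σ
  have hpg := hC.proper_g
  have hfl := hC.flat
  have hlfp := hC.lfp
  have hrX : Cyc.HasRelDim (σ ≫ g ≫ φ) 1 := hss.1.2.2.2.2.1
  have hrY : Cyc.HasRelDim (g ≫ φ) 1 := (hE R φ (σ ≫ g) σ g hC hη (by rwa [Category.assoc])).2.2
  let s : ↥(Spec (CommRingCat.of R)) := IsLocalRing.closedPoint R
  have hak : IsAlgClosed ((Spec (CommRingCat.of R)).residueField s) := K122.ValBase.isAlgClosed_residueField R s
  let t : Spec (CommRingCat.of ((Spec (CommRingCat.of R)).residueField s)) ⟶ Spec (CommRingCat.of R) :=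
    (Spec (CommRingCat.of R)).fromSpecResidueField s
  have hti : IsClosedImmersion t := isClosed_singleton_iff_isClosedImmersion.1 (isClosed_closedPoint R)
  have hfX : Flat (σ ≫ g ≫ φ) := hss.1.1
  have hdim : ∀ y : Y, topologicalKrullDim ↥(σ.fiber y) ≤ 1 := fun y =>
    K897.FibreVan.dim_fiber_le σ (g ≫ φ) _ (dim_le _ hrX _) y rfl
  have hY := IsPullback.of_hasPullback (g ≫ φ) t
  have hX := IsPullback.of_hasPullback σ (pullback.fst (g ≫ φ) t)
  have hD := IsPullback.of_hasPullback i (pullback.fst σ (pullback.fst (g ≫ φ) t))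
  refine core hK hS hM R φ σ g i hss hfl hlfp hrY c hc hcl y₀ hy₀ hgy hgen hfin hout
    (k := (Spec (CommRingCat.of R)).residueField s) t ?_ hY hX hD ?_
  · intro z
    have h1 : t z ∈ Set.range ((Spec (CommRingCat.of R)).fromSpecResidueField s) := ⟨z, rfl⟩
    rw [Scheme.range_fromSpecResidueField] at h1
    exact h1
  · exact K897.SteinAcyc.isIso_app σ (g ≫ φ) hC.iso_app hdim hH hY hX

/-- contractions restrict to opens -/
theorem ctn_of_isPullback {S V X Y V' X' Y' : Scheme.{u}} {φ : V ⟶ S} {σ : X ⟶ Y} {g : Y ⟶ V}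
    (h : Ctn φ (σ ≫ g) σ g) (k : V' ⟶ V) [IsOpenImmersion k] {kY : Y' ⟶ Y} {g' : Y' ⟶ V'}
    (hY : IsPullback kY g' g k) {kX : X' ⟶ X} {σ' : X' ⟶ Y'} (hX : IsPullback kX σ' σ kY) :
    Ctn (k ≫ φ) (σ' ≫ g') σ' g' := by
  have hkY : IsOpenImmersion kY := MorphismProperty.of_isPullback (P := @IsOpenImmersion) hY.flip inferInstance
  have hpσ := h.proper_σ
  have hpg := h.proper_g
  have e : g' ≫ k ≫ φ = kY ≫ g ≫ φ := by rw [← Category.assoc, ← hY.w, Category.assoc]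
  have h1 := h.flat
  have h2 := h.lfp
  refine ⟨rfl, MorphismProperty.of_isPullback (P := @IsProper) hX inferInstance,
    MorphismProperty.of_isPullback (P := @IsProper) hY inferInstance, ?_, ?_, fun U => ?_⟩
  · rw [e]
    infer_instance
  · rw [e]
    infer_instance
  · exact Pi1A.SteinEtale.isIso_app_of_flat hX h.iso_app U

theorem ne_closed {X : Scheme.{u}} {x : X} (h : ¬ IsClosed ({x} : Set X)) : ∃ x' : X, x ⤳ x' ∧ x' ≠ x := by
  by_contra hcon
  push_neg at hcon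
  apply h
  have h1 : closure ({x} : Set X) = {x} := by
    apply Set.Subset.antisymm
    · intro z hz
      exact hcon z (specializes_iff_mem_closure.2 hz)
    · exact subset_closure
  rw [← h1]
  exact isClosed_closure

theorem eq_of_specializes {X : Scheme.{u}} {x x' : X} (h : IsClosed ({x} : Set X)) (hs : x ⤳ x') : x' = x :=
  hs.mem_closed h rfl

theorem main (hK : NodalK.{u}) (hS : SSOpen.{u}) (hM : MarkImm.{u}) (hE : EtaY.{u}) (hF : FibH1.{u}) :
    SSPlan.Nodal.{u} := by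
  intro R _ _ _ _ V X Y D _ φ _ σ g i hss hη hC c hc hcl y₀ T hT hTy hTn hTc hgen hH1 hout hsing hG
  subst hTy
  have hpσ := hC.proper_σ
  have hpg := hC.proper_g
  obtain ⟨x₀, hx₀⟩ := hTn
  have hgy : g y₀ = c := by
    rw [← hTc x₀ hx₀]
    exact congrArg g hx₀.symm
  have hy₀ : IsClosed ({y₀} : Set Y) := by
    have h1 := σ.isClosedMap _ hT
    rwa [Set.image_preimage_eq_of_subset (Set.singleton_subset_iff.2 ⟨x₀, hx₀⟩)] at h1
  have hrX : Cyc.HasRelDim (σ ≫ g ≫ φ) 1 := hss.1.2.2.2.2.1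
  have hdim : ∀ y : Y, topologicalKrullDim ↥(σ.fiber y) ≤ 1 := fun y =>
    K897.FibreVan.dim_fiber_le σ (g ≫ φ) _ (dim_le _ hrX _) y rfl
  have hcomp : CompactSpace Y := QuasiCompact.compactSpace_of_compactSpace g
  have hlt : LocallyOfFiniteType (g ≫ φ) := inferInstance
  obtain ⟨N, hN, hN'⟩ := Acyc.exists_opens σ g hdim c hcl (fun y hy hycl => by
    by_cases h : y = y₀
    · subst h
      exact hF R σ (g ≫ φ) hss.2.1 y (by rw [Scheme.Hom.comp_apply, hy, hc]) hycl _ hT rfl hgen hH1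
    · obtain ⟨x, hx⟩ := hsing y hy h hycl
      have h1 : Subsingleton (σ.fiber y) := by
        refine ⟨fun a b => (σ.fiberι y).isEmbedding.injective ?_⟩
        have h2 : ∀ a : σ.fiber y, σ.fiberι y a = x := fun a => by
          have h3 : σ.fiberι y a ∈ Set.range (σ.fiberι y) := ⟨a, rfl⟩
          rw [Scheme.Hom.range_fiberι, hx] at h3
          exact h3
        rw [h2 a, h2 b]
      have h4 : Coh.IsQCoh (Coh.structureModule (σ.fiber y)) := CurvesC.UnitCoh.isQCoh_unit _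
      exact S0007.result _ _ 1 one_pos)
  obtain ⟨a, hca, haN⟩ := TopLem.exists_basicOpen g g.isClosedMap c N hN
  -- the restricted situation
  let U₀ : V.Opens := V.basicOpen a
  have hU₀ : IsAffine (U₀ : Scheme.{u}) := (isAffineOpen_top V).basicOpen a
  let k₁ : (U₀ : Scheme.{u}) ⟶ V := U₀.ι
  let c₁ : (U₀ : Scheme.{u}) := ⟨c, hca⟩
  have hkc : k₁ c₁ = c := rfl
  have hY₁ := IsPullback.of_hasPullback g k₁
  have hX₁ := IsPullback.of_hasPullback σ (pullback.fst g k₁)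
  have hD₁ := IsPullback.of_hasPullback i (pullback.fst σ (pullback.fst g k₁))
  set kY₁ := pullback.fst g k₁
  set g₁ := pullback.snd g k₁
  set kX₁ := pullback.fst σ kY₁
  set σ₁ := pullback.snd σ kY₁
  set kD₁ := pullback.fst i kX₁
  set i₁ := pullback.snd i kX₁
  have hokY : IsOpenImmersion kY₁ := inferInstance
  have hokX : IsOpenImmersion kX₁ := inferInstance
  have hC₁ := ctn_of_isPullback hC k₁ hY₁ hX₁
  have hp1 := hC₁.proper_σ
  have hp2 := hC₁.proper_g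
  have hgk : ∀ y, k₁ (g₁ y) = g (kY₁ y) := fun y => by
    rw [← Scheme.Hom.comp_apply, ← Scheme.Hom.comp_apply, hY₁.w]
  have hσk : ∀ x, kY₁ (σ₁ x) = σ (kX₁ x) := fun x => by
    rw [← Scheme.Hom.comp_apply, ← Scheme.Hom.comp_apply, hX₁.w]
  have hik : ∀ d, kX₁ (i₁ d) = i (kD₁ d) := fun d => by
    rw [← Scheme.Hom.comp_apply, ← Scheme.Hom.comp_apply, hD₁.w]
  have hinj : Function.Injective k₁ := k₁.isOpenEmbedding.injective
  have hinjY : Function.Injective kY₁ := kY₁.isOpenEmbedding.injective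
  have hinjX : Function.Injective kX₁ := kX₁.isOpenEmbedding.injective
  obtain ⟨y₁, hy₁⟩ := exists_pt hY₁ (x := y₀) (y := c₁) (by rw [hgy, hkc])
  have hg₁ : g₁ y₁ = c₁ := hinj (by rw [hgk, hy₁, hgy, hkc])
  have e1 : kX₁ ≫ σ ≫ g ≫ φ = σ₁ ≫ g₁ ≫ k₁ ≫ φ := by
    rw [← Category.assoc, hX₁.w, Category.assoc, ← Category.assoc kY₁, hY₁.w, Category.assoc]
  have hss₁ : SSMod.IsSemistable (σ₁ ≫ g₁ ≫ k₁ ≫ φ) i₁ := by
    rw [← e1]
    refine K971.SSRestrict.isSemistable_restrict hss hD₁ ?_ ?_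
    · rw [e1]
      infer_instance
    · rw [e1]
      infer_instance
  have hη₁ : SSMod.IsEtaIso (k₁ ≫ φ) (σ₁ ≫ g₁) := K971.SSBasic.isEtaIso_of_isPullback hη (hX₁.paste_vert hY₁)
  have hcl₁ : IsClosed ({c₁} : Set (U₀ : Scheme.{u})) := by
    have h1 := hcl.preimage k₁.continuous
    have h2 : k₁ ⁻¹' {c} = {c₁} := by
      ext z
      exact ⟨fun hz => hinj (hz.trans hkc.symm), fun hz => by rw [hz]; exact hkc⟩
    rwa [h2] at h1
  have hycl₁ : IsClosed ({y₁} : Set ↥(pullback g k₁)) := by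
    have h1 := hy₀.preimage kY₁.continuous
    have h2 : kY₁ ⁻¹' {y₀} = {y₁} := by
      ext z
      exact ⟨fun hz => hinjY (hz.trans hy₁.symm), fun hz => by rw [hz]; exact hy₁⟩
    rwa [h2] at h1
  obtain ⟨U, hU, hcU, hU'⟩ := nodal1 hK hS hM hE R (k₁ ≫ φ) σ₁ g₁ i₁ hss₁ hη₁ hC₁ c₁
    (by rw [Scheme.Hom.comp_apply, hkc, hc]) hcl₁ y₁ hycl₁ hg₁
    (fun y => hN' hX₁ y (haN (kY₁ y) (by rw [← hgk]; exact (g₁ y).2)))
    (fun x hx => by
      have hx' : kX₁ x ∈ σ ⁻¹' {y₀} := by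
        change σ (kX₁ x) = y₀
        rw [← hσk, hx, hy₁]
      obtain ⟨ξ, h1, h2, h3⟩ := hgen _ hx'
      have h1' : σ ξ = kY₁ y₁ := by rw [hy₁]; exact h1
      obtain ⟨ξ₁, rfl⟩ := exists_pt hX₁ h1'
      refine ⟨ξ₁, hinjY (by rw [hσk, h1']), kX₁.isOpenEmbedding.isInducing.specializes_iff.1 h2, fun h4 => ?_⟩
      obtain ⟨x', h5, h6⟩ := ne_closed h3
      have h7 : σ x' = kY₁ y₁ := by
        rw [hy₁]
        exact h5.mem_closed hT h1
      obtain ⟨x'', rfl⟩ := exists_pt hX₁ h7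
      exact h6 (congrArg kX₁ (eq_of_specializes h4 (kX₁.isOpenEmbedding.isInducing.specializes_iff.1 h5))))
    (fun y hy hycl hne => by
      by_contra hinf
      have hex : ∃ ξ, σ₁ ξ = y ∧ ¬ IsClosed ({ξ} : Set _) := by
        by_contra hcon
        push_neg at hcon
        exact hinf (TopLem.finite_fibre σ₁ y hcon)
      obtain ⟨ξ, rfl, hξ⟩ := hex
      obtain ⟨x', h1, h2⟩ := ne_closed hξ
      have h3 : g (σ (kX₁ ξ)) = k₁ (g₁ (σ₁ ξ)) := by rw [hgk, hσk]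
      have h4 := hG (kX₁ ξ) (kX₁ x') (h1.map kX₁.continuous) (fun h => h2 (hinjX h))
        (by rw [h3]; exact hy)
      rw [h3] at h4
      have h5 : IsClosed ({g₁ (σ₁ ξ)} : Set (U₀ : Scheme.{u})) := by
        have := g₁.isClosedMap _ hycl
        rwa [Set.image_singleton] at this
      have h6 : c₁ = g₁ (σ₁ ξ) :=
        eq_of_specializes h5 (k₁.isOpenEmbedding.isInducing.specializes_iff.1 (by rw [hkc]; exact h4))
      have h7 : g (kY₁ (σ₁ ξ)) = c := by rw [← hgk, ← h6, hkc]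
      have h8 : IsClosed ({kY₁ (σ₁ ξ)} : Set Y) := by
        by_contra hcon
        obtain ⟨z, hz1, hz2⟩ := ne_closed hcon
        have hz3 : g z = k₁ c₁ := by
          rw [hkc]
          exact (hz1.map g.continuous).mem_closed hcl h7
        obtain ⟨z', rfl⟩ := exists_pt hY₁ hz3
        exact hz2 (congrArg kY₁ (eq_of_specializes hycl (kY₁.isOpenEmbedding.isInducing.specializes_iff.1 hz1)))
      obtain ⟨x, hx⟩ := hsing _ h7 (fun h => hne (hinjY (by rw [h, hy₁]))) h8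
      apply hinf
      have h9 : σ₁ ⁻¹' {σ₁ ξ} ⊆ kX₁ ⁻¹' {x} := by
        intro w hw
        have hw' : σ₁ w = σ₁ ξ := hw
        change kX₁ w ∈ ({x} : Set X)
        rw [← hx]
        change σ (kX₁ w) = kY₁ (σ₁ ξ)
        rw [← hσk, hw']
      exact ((Set.finite_singleton x).preimage hinjX.injOn).subset h9)
    (by
      refine (Set.encard_le_encard_of_injOn (f := kX₁) ?_ hinjX.injOn).trans hout
      rintro x ⟨h1, h2⟩
      have h1' : σ (kX₁ x) = y₀ := by rw [← hσk, h1, hy₁]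
      refine ⟨h1', ?_⟩
      rcases h2 with h2 | ⟨d, rfl⟩
      · left
        refine closure_mono ?_ (image_closure_subset_closure_image kX₁.continuous ⟨x, h2, rfl⟩)
        rintro _ ⟨z, hz, rfl⟩
        refine ⟨?_, fun hz' => hz.2 ?_⟩
        · have h3 := hz.1
          rw [← e1] at h3
          exact h3
        · have hz'' : σ (kX₁ z) = y₀ := hz'
          exact hinjY (by rw [hσk, hz'', hy₁])
      · right
        exact ⟨kD₁ d, (hik d).symm⟩)
  have hW := (isPullback_morphismRestrict g₁ U).flip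
  have hWX := (isPullback_morphismRestrict σ₁ (g₁ ⁻¹ᵁ U)).flip
  have hWD := (isPullback_morphismRestrict i₁ (σ₁ ⁻¹ᵁ g₁ ⁻¹ᵁ U)).flip
  refine ⟨U, hU, U.ι ≫ k₁, inferInstance, ⟨c₁, hcU⟩, rfl, _, _, _, _, g₁ ∣_ U, _, σ₁ ∣_ (g₁ ⁻¹ᵁ U), _,
    i₁ ∣_ (σ₁ ⁻¹ᵁ g₁ ⁻¹ᵁ U), hW.paste_horiz hY₁, hWX.paste_horiz hX₁, hWD.paste_horiz hD₁, ?_⟩
  rw [morphismRestrict_comp] at hU'
  rw [Category.assoc]
  exact hU'

end K755.Nodal
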