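import Groth.Agent.SSMod.K755.Final
import Groth.Agent.SSMod.K755.Nodal
import Groth.Agent.SSMod.K330.NodalK
import Groth.Agent.SSMod.K106.SSOpen
import Groth.Agent.SSMod.K106.Restr
import Groth.Agent.SSMod.K347.MarkImm
import Groth.Agent.SSMod.K342.EtaY
import Groth.Agent.SSMod.K50.FibH1
import Groth.Agent.SSMod.K373.TData
import Groth.Agent.SSMod.K502.SteinMain
import Groth.Agent.SSMod.K481.GG
import Groth.Agent.SSMod.K380.Div
import Groth.Agent.SSMod.K625.Fin
import Groth.Agent.SSMod.K469.FinGen
import Groth.Agent.SSMod.K478.OpenC
import Groth.Agent.SSMod.K640.Localize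
import Groth.Agent.SSMod.K263.OpenBase

/-!
# Stable modifications from semistable ones, locally on `C`
-/

set_option autoImplicit false
universe u

namespace K755.ContrLoc

open SSPlan

theorem nodal : Nodal.{u} :=
  Nodal.main K330.NodalK.main K106.SSOpen.main K347.MarkImm.main K342.EtaY.main K50.FibH1.main

theorem contrClosed : ContrClosed.{u} :=
  Final.contrClosed nodal K373.TData.main (K502.Stein.main K481.GG.main K380.Div.main K625.Fin.main)
    K106.Restr.main K469.FinGen.main K342.EtaY.main K478.OpenC.main

theorem main : SSPlan.ContrLoc.{u} :=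
  K640.Localize.main K263.OpenBase.main K106.Restr.main contrClosed

end K755.ContrLoc
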