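import Groth.Agent.SSMod.K755.ContrLoc
import Groth.Agent.SSMod.K971.SmoothEta
import Groth.Agent.SSMod.K971.StableBC
import Groth.Agent.SSMod.K62.Frob
import Groth.Agent.SSMod.K122.Glue
import Groth.Agent.S15274

/-!
# S15280: a semistable modification gives a stable one
-/

set_option autoImplicit false
universe u
open CategoryTheory CategoryTheory.Limits AlgebraicGeometry TopologicalSpace

namespace K755.Row

open Groth.Agent K971

/-- From semistable to stable, algebraically closed fraction field. -/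
theorem contr (R : Type u) [CommRing R] [IsDomain R] [ValuationRing R] [Finite (PrimeSpectrum R)]
    [IsAlgClosed (FractionRing R)]
    {C D C' D' : Scheme.{u}} (φ : C ⟶ Spec (CommRingCat.of R)) (i : D ⟶ C)
    (hC : SSMod.IsMPCurve φ i)
    (i' : D' ⟶ C') (gC : C' ⟶ C) (gD : D' ⟶ D) (hss : SSMod.IsSemistableModification φ i i' gC gD)
    (hη : SSMod.IsEtaIso φ gC) (hηD : SSMod.IsEtaIso (i ≫ φ) gD) :
    ∃ (Cst Dst : Scheme.{u}) (ist : Dst ⟶ Cst) (fC : Cst ⟶ C) (fD : Dst ⟶ D),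
      SSMod.IsStableModification φ i ist fC fD ∧ SSMod.IsEtaIso φ fC ∧
        SSMod.IsEtaIso (i ≫ φ) fD := by
  refine K122.Glue.main S15274.result (K122.ValBase.isNormalScheme R) φ i hC fun c => ?_
  obtain ⟨V, hV, hcV, -⟩ := exists_isAffineOpen_mem_and_subset (X := C) (x := c) (U := ⊤) trivial
  have hVa : IsAffine (V : Scheme.{u}) := hV
  have sqi := (isPullback_morphismRestrict i V).flip
  have sqf := (isPullback_morphismRestrict gC V).flip
  have sqd := (isPullback_morphismRestrict gD (i ⁻¹ᵁ V)).flip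
  obtain ⟨j, hj1, hj2, hj3⟩ := Step.Md.restrict K106.Restr.main ⟨hC, hss, hη, hηD⟩ V.ι sqi sqf sqd
  obtain ⟨V₁, hcV₁, CV, DV, iV, fV, fDV, h1, h2, h3⟩ := ContrLoc.main R (V.ι ≫ φ) (i ∣_ V) hj3.mp j _ _ hj3.ssm
    hj3.ef hj3.ed ⟨c, hcV⟩
  have sq := (isPullback_morphismRestrict (i ∣_ V) V₁).flip.paste_horiz sqi
  obtain ⟨fV', fD', a1, a2, a3⟩ := K478.OpenC.main φ i (V₁.ι ≫ V.ι) _ _ sq iV fV fDV
    (by rw [Category.assoc]; exact h1) (by rw [Category.assoc]; exact h2) (by rw [Category.assoc]; exact h3)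
  exact ⟨(V₁.ι ≫ V.ι).opensRange, ⟨⟨⟨c, hcV⟩, hcV₁⟩, rfl⟩, CV, DV, iV, fV', fD', a1, a2, a3⟩

/-- From semistable to stable, separably closed fraction field, modifications isomorphic on generic fibres. -/
theorem contrSep (R : Type u) [CommRing R] [IsDomain R] [ValuationRing R] [Finite (PrimeSpectrum R)]
    [IsSepClosed (FractionRing R)]
    {C D C' D' : Scheme.{u}} (φ : C ⟶ Spec (CommRingCat.of R)) (i : D ⟶ C)
    (hC : SSMod.IsMPCurve φ i)
    (i' : D' ⟶ C') (gC : C' ⟶ C) (gD : D' ⟶ D) (hss : SSMod.IsSemistableModification φ i i' gC gD)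
    (hη : SSMod.IsEtaIso φ gC) (hηD : SSMod.IsEtaIso (i ≫ φ) gD) :
    ∃ (Cst Dst : Scheme.{u}) (ist : Dst ⟶ Cst) (fC : Cst ⟶ C) (fD : Dst ⟶ D),
      SSMod.IsStableModification φ i ist fC fD ∧ SSMod.IsEtaIso φ fC ∧
        SSMod.IsEtaIso (i ≫ φ) fD := by
  let K := FractionRing R
  let L := AlgebraicClosure K
  let Ra := integralClosure R L
  have hval : ValuationRing Ra := K263.RFSep.valuationRing R K L
  have hfin : Finite (PrimeSpectrum Ra) := K263.RFSep.finite_primeSpectrum R K L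
  have hfr : IsFractionRing Ra L := K263.RFSep.isFractionRing R K L
  have hac : IsAlgClosed (FractionRing Ra) :=
    IsAlgClosed.of_ringEquiv L _ (FractionRing.algEquiv Ra L).symm.toRingEquiv
  let t := Spec.map (CommRingCat.ofHom (algebraMap R Ra))
  have ht : K62.TExt.Good t := K62.TExt.good R K L
  have sq : IsPullback (pullback.fst φ t) (pullback.snd φ t) φ t := IsPullback.of_hasPullback _ _
  have sqi := SSRestrict.isPullback_baseChangeOver i φ t
  have hMP : SSMod.IsMPCurve (pullback.snd φ t) (CInt.baseChangeOver i φ t) :=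
    SSBaseChange.isMPCurve_of_isPullback hC sq sqi
  have sqC := IsPullback.of_hasPullback gC (pullback.fst φ t)
  have sqD := IsPullback.of_hasPullback gD (pullback.fst (i ≫ φ) t)
  have hl : (pullback.fst gD (pullback.fst (i ≫ φ) t) ≫ i') ≫ gC =
      (pullback.snd gD (pullback.fst (i ≫ φ) t) ≫ CInt.baseChangeOver i φ t) ≫ pullback.fst φ t := by
    rw [Category.assoc, Category.assoc, hss.1.1, SSRestrict.baseChangeOver_fst, ← Category.assoc,
      pullback.condition, Category.assoc]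
  obtain ⟨b1, b2, b3, -⟩ := StableBC.isSemistableModification_baseChange hC hss hη hηD ht.gen sq sqi sqC sqD
    (pullback.lift _ _ hl) (pullback.lift_fst _ _ _) (pullback.lift_snd _ _ _)
  obtain ⟨Cst, Dst, ist, fC, fD, h1, h2, h3⟩ := contr Ra _ _ hMP _ _ _ b1 b2 b3
  exact K62.DescStable.descend_stable ht hC sq sqi h1 h2 h3

theorem main (R : Type u) [CommRing R] [IsDomain R] [ValuationRing R] [Finite (PrimeSpectrum R)]
    [IsSepClosed (FractionRing R)]
    {C D C' D' : Scheme.{u}} (φ : C ⟶ Spec (CommRingCat.of R)) (i : D ⟶ C)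
    (hC : SSMod.IsMPCurve φ i)
    (hK : Smooth (pullback.snd φ (Spec.map (CommRingCat.ofHom (algebraMap R (FractionRing R))))))
    (i' : D' ⟶ C') (gC : C' ⟶ C) (gD : D' ⟶ D) (hss : SSMod.IsSemistableModification φ i i' gC gD) :
    ∃ (Cst Dst : Scheme.{u}) (ist : Dst ⟶ Cst) (fC : Cst ⟶ C) (fD : Dst ⟶ D),
      SSMod.IsStableModification φ i ist fC fD := by
  have h1 := hC.1
  have h2 := hC.2.1
  have h3 : Flat (i ≫ φ) := hC.2.2.2.2.2.2.1
  have h4 : LocallyOfFinitePresentation (i ≫ φ) := hC.2.2.2.2.2.2.2.1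
  have hη := SmoothEta.isEtaIso_of_smooth R φ hC.2.2.2.2.1 hK gC hss.1.2.2.1
  have hηD := SmoothEta.isEtaIso_of_hasRelDim_zero hC.2.2.2.2.2.2.2.2 hss.1.2.2.2
  obtain ⟨Cst, Dst, ist, fC, fD, h, -, -⟩ := contrSep R φ i hC i' gC gD hss hη hηD
  exact ⟨Cst, Dst, ist, fC, fD, h⟩

end K755.Row
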