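import Groth.Agent.SSMod.K755.Plan4

/-!
# Interfaces, fifth part: reduction of `ContrLoc` to closed points of the closed fibre
-/

set_option autoImplicit false
universe u
open CategoryTheory CategoryTheory.Limits AlgebraicGeometry TopologicalSpace

namespace K755.SSPlan

/-- `ContrLoc` at a closed point of the closed fibre. -/
def ContrClosed : Prop := ∀ (R : Type u) [CommRing R] [IsDomain R] [ValuationRing R] [Finite (PrimeSpectrum R)]
    [IsAlgClosed (FractionRing R)]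
    {C D C' D' : Scheme.{u}} [IsAffine C] (φ : C ⟶ Spec (CommRingCat.of R)) (i : D ⟶ C)
    (_ : SSMod.IsMPCurve φ i)
    (i' : D' ⟶ C') (gC : C' ⟶ C) (gD : D' ⟶ D) (_ : SSMod.IsSemistableModification φ i i' gC gD)
    (_ : SSMod.IsEtaIso φ gC) (_ : SSMod.IsEtaIso (i ≫ φ) gD) (c : C)
    (_ : φ c = IsLocalRing.closedPoint R) (_ : IsClosed ({c} : Set C)),
    ∃ V : C.Opens, c ∈ V ∧
      ∃ (CV DV : Scheme.{u}) (iV : DV ⟶ CV) (fV : CV ⟶ V) (fDV : DV ⟶ (i ⁻¹ᵁ V : D.Opens)),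
        SSMod.IsStableModification (V.ι ≫ φ) (i ∣_ V) iV fV fDV ∧
        SSMod.IsEtaIso (V.ι ≫ φ) fV ∧ SSMod.IsEtaIso ((i ∣_ V) ≫ V.ι ≫ φ) fDV

/-- LOCALIZE: it is enough to treat the closed points of the closed fibre. -/
def Localize : Prop := PostOpen.{u} → Restr.{u} → ContrClosed.{u} → ContrLoc.{u}

/-- FINGEN: over a base with finitely many points, the non-closed points of the fibres of a relative curve of finite
presentation form a finite set. -/
def FinGen : Prop := ∀ {X S : Scheme.{u}} [Finite S] (p : X ⟶ S) [LocallyOfFiniteType p] [QuasiCompact p]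
    (_ : Cyc.HasRelDim p 1), {x : X | ∃ x' : X, x ⤳ x' ∧ x' ≠ x ∧ p x' = p x}.Finite

/-- OPENC: stable modifications (isomorphic over the generic point) transport from an open immersion `k : V' ⟶ V` to
the open subscheme `k.opensRange`. -/
def OpenC : Prop := ∀ {S V D V' D' CV DV : Scheme.{u}} [IsIntegral S] (φ : V ⟶ S) (i : D ⟶ V) (k : V' ⟶ V)
    [IsOpenImmersion k] (kD : D' ⟶ D) (i' : D' ⟶ V') (_ : IsPullback kD i' i k) (iV : DV ⟶ CV) (fV : CV ⟶ V')
    (fD : DV ⟶ D') (_ : SSMod.IsStableModification (k ≫ φ) i' iV fV fD) (_ : SSMod.IsEtaIso (k ≫ φ) fV)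
    (_ : SSMod.IsEtaIso (i' ≫ k ≫ φ) fD),
    ∃ (fV' : CV ⟶ k.opensRange) (fD' : DV ⟶ (i ⁻¹ᵁ k.opensRange : D.Opens)),
      SSMod.IsStableModification (k.opensRange.ι ≫ φ) (i ∣_ k.opensRange) iV fV' fD' ∧
        SSMod.IsEtaIso (k.opensRange.ι ≫ φ) fV' ∧
        SSMod.IsEtaIso ((i ∣_ k.opensRange) ≫ k.opensRange.ι ≫ φ) fD'

end K755.SSPlan
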