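import Groth.Agent.SSMod.K755.Ind

/-!
# Stable modifications near the closed points of the closed fibre
-/

set_option autoImplicit false
universe u
open CategoryTheory CategoryTheory.Limits AlgebraicGeometry TopologicalSpace

namespace K755.Final

open Groth.Agent SSPlan Step Ind

theorem contrClosed (hN : Nodal.{u}) (hTD : TData.{u}) (hSt : Stein.{u}) (hR : Restr.{u}) (hFG : FinGen.{u})
    (hE : EtaY.{u}) (hO : OpenC.{u}) : ContrClosed.{u} := by
  intro R _ _ _ _ _ C D C' D' _ φ i hmp i' gC gD hssm hη hηD c hc hcl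
  obtain ⟨V', k, hk, c', hc', D₁, kD, i₁, sq, CV, DC, iC, fC, dC, h1, h2, h3⟩ :=
    ind hN hTD hSt hR hFG hE R _ φ i gC i' gD ⟨hmp, hssm, hη, hηD⟩ c hc hcl rfl
  obtain ⟨fV', fD', a1, a2, a3⟩ := hO φ i k kD i₁ sq iC fC dC h1 h2 h3
  exact ⟨k.opensRange, ⟨c', hc'⟩, CV, DC, iC, fV', fD', a1, a2, a3⟩

end K755.Final
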