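import Groth.Agent.CycB.FlatProper
import Groth.Prelude.Def_Cyc
import Mathlib.AlgebraicGeometry.Morphisms.UniversallyOpen

/-!
# Generic points of geometric fibres are not closed in their fibre
-/

set_option autoImplicit false
universe u
open CategoryTheory CategoryTheory.Limits AlgebraicGeometry TopologicalSpace

namespace K755.GenPt

open Groth.Agent

theorem closure_mem {α : Type*} [TopologicalSpace α] [QuasiSober α] (y : α) (h : ∀ x : α, x ⤳ y → x = y) :
    closure ({y} : Set α) ∈ irreducibleComponents α := by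
  refine ⟨isIrreducible_singleton.closure, ?_⟩
  intro s hs hys
  obtain ⟨x, hx⟩ := QuasiSober.sober (hs.closure) isClosed_closure
  have hx' : closure ({x} : Set α) = closure s := hx
  have hxy : x ⤳ y := by
    rw [specializes_iff_mem_closure, hx']
    exact subset_closure (hys (subset_closure rfl))
  rw [h x hxy] at hx'
  show s ≤ closure {y}
  rw [hx']
  exact subset_closure

/-- a maximal point of a relative curve has a proper specialization in its fibre -/
theorem exists_of_fiber {X S : Scheme.{u}} (p : X ⟶ S) (hr : Cyc.HasRelDim p 1) (s : S) (η : p.fiber s)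
    (hη : ∀ w : p.fiber s, w ⤳ η → w = η) :
    ∃ x' : X, p.fiberι s η ⤳ x' ∧ x' ≠ p.fiberι s η ∧ p x' = p (p.fiberι s η) := by
  have h1 : closure ({η} : Set (p.fiber s)) ∈ irreducibleComponents (p.fiber s) :=
    closure_mem η hη
  have h2 := hr s _ h1
  have hp : ∀ z : p.fiber s, p (p.fiberι s z) = s := fun z => by
    have h3 : p.fiberι s z ∈ Set.range (p.fiberι s) := ⟨z, rfl⟩
    rw [Scheme.Hom.range_fiberι] at h3
    exact h3
  by_contra hcon
  push_neg at hcon
  have h4 : ∀ z ∈ closure ({η} : Set (p.fiber s)), z = η := by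
    intro z hz
    by_contra hne
    have h5 := (specializes_iff_mem_closure.2 hz).map (p.fiberι s).continuous
    exact hcon _ h5 (fun h => hne ((p.fiberι s).isEmbedding.injective h)) (by rw [hp, hp])
  have h6 : Subsingleton ↥(closure ({η} : Set (p.fiber s))) :=
    ⟨fun a b => Subtype.ext ((h4 a.1 a.2).trans (h4 b.1 b.2).symm)⟩
  have h7 := topologicalKrullDim_zero_of_discreteTopology ↥(closure ({η} : Set (p.fiber s)))
  rw [h2] at h7
  exact absurd h7 (by norm_num)

theorem exists_specializes {X S : Scheme.{u}} (p : X ⟶ S) (hr : Cyc.HasRelDim p 1)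
    {T P : Scheme.{u}} {g : T ⟶ S} {a : P ⟶ X} {b : P ⟶ T} (H : IsPullback a b p g)
    (ζ : P) (hζ : ∀ w : P, w ⤳ ζ → w = ζ) :
    ∃ x' : X, a ζ ⤳ x' ∧ x' ≠ a ζ ∧ p x' = p (a ζ) := by
  obtain ⟨ζ', hζ'⟩ : ∃ ζ' : b.fiber (b ζ), b.fiberι (b ζ) ζ' = ζ := by
    have : ζ ∈ Set.range (b.fiberι (b ζ)) := by
      rw [Scheme.Hom.range_fiberι]
      rfl
    exact this
  have h1 : ∀ w : b.fiber (b ζ), w ⤳ ζ' → w = ζ' := fun w hw => by
    have h2 := hw.map (b.fiberι (b ζ)).continuous
    rw [hζ'] at h2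
    exact (b.fiberι (b ζ)).isEmbedding.injective ((hζ _ h2).trans hζ'.symm)
  have h3 : ∀ w : p.fiber (g (b ζ)), w ⤳ CycB.FlatProper.fibMap H (b ζ) ζ' →
      w = CycB.FlatProper.fibMap H (b ζ) ζ' := by
    intro w hw
    obtain ⟨w', h4, h5⟩ := Flat.generalizingMap (CycB.FlatProper.fibMap H (b ζ)) hw
    rw [← h5, h1 w' h4]
  obtain ⟨x', h6⟩ := exists_of_fiber p hr _ _ h3
  rw [CycB.FlatProper.fiberι_fibMap_apply, hζ'] at h6
  exact ⟨x', h6⟩

end K755.GenPt
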