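import Groth.Agent.SSMod.K755.Step
import Groth.Agent.CurvSt.K897.Contract
import Groth.Agent.Flat2D.LfpComp

/-!
# The induction: contracting the exceptional components over `c`
-/

set_option autoImplicit false
universe u
open CategoryTheory CategoryTheory.Limits AlgebraicGeometry TopologicalSpace

namespace K755.Ind

open Groth.Agent SSPlan Step

theorem exists_shrink {X V : Scheme.{u}} [IsAffine V] (f : X ⟶ V) (c : V) (G : Set X) (hG : G.Finite) :
    ∃ a : Γ(V, ⊤), c ∈ V.basicOpen a ∧ ∀ x ∈ G, f x ∈ V.basicOpen a → f x ⤳ c := by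
  have hfin : {x | x ∈ G ∧ ¬ f x ⤳ c}.Finite := hG.subset fun x hx => hx.1
  have hcl : IsClosed (⋃ x ∈ {x | x ∈ G ∧ ¬ f x ⤳ c}, closure ({f x} : Set V)) :=
    hfin.isClosed_biUnion fun _ _ => isClosed_closure
  let W : V.Opens := ⟨_, hcl.isOpen_compl⟩
  have hcW : c ∈ W := by
    intro h
    obtain ⟨x, hx, hc⟩ := Set.mem_iUnion₂.1 h
    exact hx.2 (specializes_iff_mem_closure.2 hc)
  obtain ⟨a, ha1, ha2⟩ := (isAffineOpen_top V).exists_basicOpen_le (V := W) ⟨c, hcW⟩ (Set.mem_univ _)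
  refine ⟨a, ha2, fun x hx hxa => ?_⟩
  by_contra hcon
  exact ha1 hxa (Set.mem_iUnion₂.2 ⟨x, ⟨hx, hcon⟩, subset_closure rfl⟩)

theorem maximal_of_isGenericPoint {P : Scheme.{u}} {Z : Set P} (hZ : Z ∈ irreducibleComponents (P : Type u))
    {ζ : P} (hζ : IsGenericPoint ζ Z) (w : P) (hw : w ⤳ ζ) : w = ζ := by
  have h1 : Z ⊆ closure ({w} : Set P) := by
    rw [← hζ.def]
    exact specializes_iff_closure_subset.1 hw
  have h2 := hZ.2 isIrreducible_singleton.closure h1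
  have h3 : w ∈ Z := h2 (subset_closure rfl)
  rw [← hζ.def] at h3
  exact (hw.antisymm (specializes_iff_mem_closure.2 h3)).eq

section

variable (hN : Nodal.{u}) (hTD : TData.{u}) (hSt : Stein.{u}) (hR : Restr.{u}) (hFG : FinGen.{u}) (hE : EtaY.{u})
  (R : Type u) [CommRing R] [IsDomain R] [ValuationRing R] [Finite (PrimeSpectrum R)] [IsAlgClosed (FractionRing R)]

include hN hTD hSt hR hFG hE

theorem step {V DV X DX : Scheme.{u}} [IsAffine V] (φ : V ⟶ Spec (CommRingCat.of R)) (i : DV ⟶ V)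
    (f : X ⟶ V) (iX : DX ⟶ X) (d : DX ⟶ DV) (h : Md φ i f iX d) (c : V)
    (hc : φ c = IsLocalRing.closedPoint R) (hcl : IsClosed ({c} : Set V))
    (hG : ∀ x x' : X, x ⤳ x' → x' ≠ x → (f ≫ φ) x' = (f ≫ φ) x → f x ⤳ c)
    (hne : ¬ SSMod.NoExcComp φ iX f)
    (IH : ∀ {V' DV' X' DX' : Scheme.{u}} [IsAffine V'] (φ' : V' ⟶ Spec (CommRingCat.of R)) (i' : DV' ⟶ V')
      (f' : X' ⟶ V') (iX' : DX' ⟶ X') (d' : DX' ⟶ DV') (_ : Md φ' i' f' iX' d') (c' : V')
      (_ : φ' c' = IsLocalRing.closedPoint R) (_ : IsClosed ({c'} : Set V')),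
      (bad f' c').ncard < (bad f c).ncard → Good φ' i' c') : Good φ i c := by
  have hfin : Finite ↥(Spec (CommRingCat.of R)) := inferInstanceAs (Finite (PrimeSpectrum R))
  have hlfp : LocallyOfFinitePresentation φ := h.mp.2.1
  have hflφ : Flat φ := h.mp.1
  have hpf : IsProper f := h.ssm.1.2.2.1.1
  have hss := h.ssm.2
  have hmp := hss.1
  have hqc : QuasiCompact (f ≫ φ) := hmp.2.2.1
  have hlfpX : LocallyOfFinitePresentation (f ≫ φ) := hmp.2.1
  have hrX : Cyc.HasRelDim (f ≫ φ) 1 := hmp.2.2.2.2.1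
  obtain ⟨Ω, _, _, g₀, Z, hZ, hexc⟩ : ∃ (Ω : Type u) (_ : Field Ω) (_ : IsAlgClosed Ω)
      (g₀ : Spec (CommRingCat.of Ω) ⟶ Spec (CommRingCat.of R)) (Z : Set ↥(pullback (f ≫ φ) g₀)),
      Z ∈ irreducibleComponents (↥(pullback (f ≫ φ) g₀) : Type u) ∧
      SSMod.IsExcComp Ω (CInt.baseChangeOver f φ g₀) (pullback.snd (f ≫ φ) g₀)
        ((pullback.fst (f ≫ φ) g₀).base ⁻¹' Set.range (iX.base : DX → X)) Z := by
    by_contra hcon
    apply hne
    intro Ω _ _ g₀ Z hZ hexc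
    exact hcon ⟨Ω, _, inferInstance, g₀, Z, hZ, hexc⟩
  have hZc : ∀ x ∈ Z, f (pullback.fst (f ≫ φ) g₀ x) ⤳ c := by
    obtain ⟨ζ, hζ⟩ := QuasiSober.sober hZ.1 (isClosed_of_mem_irreducibleComponents Z hZ)
    obtain ⟨x', h1, h2, h3⟩ := GenPt.exists_specializes (f ≫ φ) hrX (IsPullback.of_hasPullback (f ≫ φ) g₀) ζ
      (fun w hw => maximal_of_isGenericPoint hZ hζ w hw)
    have h4 := hG _ x' h1 h2 h3
    intro x hx
    have h5 := hexc.2.2 ⟨x, hx, rfl⟩ ⟨ζ, hζ.mem, rfl⟩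
    have h6 : ∀ z, f (pullback.fst (f ≫ φ) g₀ z) = pullback.fst φ g₀ (CInt.baseChangeOver f φ g₀ z) := fun z => by
      rw [← Scheme.Hom.comp_apply, ← Scheme.Hom.comp_apply, K971.SSRestrict.baseChangeOver_fst]
    rw [h6, h5, ← h6]
    exact h4
  obtain ⟨T, hT, hTn, hTs, hTc, hTg, hH1, hout⟩ := hTD R φ f iX hss Ω g₀ Z hZ hexc c hc hZc
  obtain ⟨Y, σ, γ, hC, y₀, hTy, hsing⟩ := hSt R φ f hss.2.1 c hc hcl T hT hTn hTs hTc hTg
  obtain rfl := hC.fac
  have hpσ := hC.proper_σ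
  have hpγ := hC.proper_g
  have hflY := hC.flat
  have hlfpY := hC.lfp
  obtain ⟨eY, -, hrY⟩ := hE R φ (σ ≫ γ) σ γ hC h.ef hrX
  have hcp : IsClosed ({IsLocalRing.closedPoint R} : Set (Spec (CommRingCat.of R))) :=
    IsLocalRing.isClosed_singleton_closedPoint R
  obtain ⟨V', hV', k, hk, c', hkc, Y', X', D', kY, γ', kX, σ', kD, i', hY, hX, hD, hss'⟩ :=
    hN R φ σ γ iX (by rw [← Category.assoc]; exact hss) h.ef hC c hc hcl y₀ T hT hTy hTn
      (fun x hx => hTs hx) hTg hH1 (by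
        rw [← Category.assoc]
        exact hout) (fun y h1 h2 h3 => hsing y h1 h2 h3)
      (fun x x' h1 h2 h3 => by
        refine hG x x' h1 h2 ?_
        have h4 : (σ ≫ γ ≫ φ) x = IsLocalRing.closedPoint R := h3
        rw [← Category.assoc] at h4
        rw [h4]
        exact (h1.map ((σ ≫ γ) ≫ φ).continuous).mem_closed hcp h4)
  have hokY : IsOpenImmersion kY := MorphismProperty.of_isPullback (P := @IsOpenImmersion) hY.flip inferInstance
  have hokX : IsOpenImmersion kX := MorphismProperty.of_isPullback (P := @IsOpenImmersion) hX.flip inferInstance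
  -- the marks
  have sqi := IsPullback.of_hasPullback i k
  have sqd := IsPullback.of_hasPullback d (pullback.fst i k)
  have sqf := hX.paste_vert hY
  obtain ⟨j, hj1, hj2, hj3⟩ := h.restrict hR k sqi sqf sqd
  -- replace the chosen pullback of the marks by `D'`
  let e : D' ≅ pullback d (pullback.fst i k) := hD.isoIsPullback _ _ hj2
  have he1 : e.hom ≫ pullback.fst d (pullback.fst i k) = kD := hD.isoIsPullback_hom_fst _ _ hj2
  have he2 : e.hom ≫ j = i' := hD.isoIsPullback_hom_snd _ _ hj2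
  have sqd' : IsPullback kD (e.hom ≫ pullback.snd d (pullback.fst i k)) d (pullback.fst i k) := by
    have h1 : IsPullback e.hom (e.hom ≫ pullback.snd d (pullback.fst i k)) (pullback.snd d (pullback.fst i k))
        (𝟙 _) := IsPullback.of_horiz_isIso ⟨by simp⟩
    have h2 := h1.paste_horiz sqd
    rwa [he1, Category.id_comp] at h2
  obtain ⟨j', hj1', hj2', hj3'⟩ := h.restrict hR k sqi sqf sqd'
  obtain rfl : j' = i' := by
    rw [← cancel_mono kX, ← hj2'.w, hD.w]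
  set d' := e.hom ≫ pullback.snd d (pullback.fst i k)
  have hfp : LocallyOfFinitePresentation (k ≫ φ) := inferInstance
  have hpγ' : IsProper γ' := MorphismProperty.of_isPullback (P := @IsProper) hY inferInstance
  have eγ : γ' ≫ k ≫ φ = kY ≫ γ ≫ φ := by rw [← Category.assoc, ← hY.w, Category.assoc]
  have hlf : LocallyOfFinitePresentation (γ' ≫ k ≫ φ) := by
    rw [eγ]
    infer_instance
  have hfl' : Flat (γ' ≫ k ≫ φ) := by
    rw [eγ]
    infer_instance
  have hγlf : LocallyOfFinitePresentation γ' := Flat2D.LfpComp.lfp_of_comp γ' (k ≫ φ)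
  have ef' : SSMod.IsEtaIso (k ≫ φ) γ' := K971.SSBasic.isEtaIso_of_isPullback eY hY
  have hmod : SSMod.IsModification γ' := by
    obtain ⟨W, hW, hWi⟩ := K971.EtaNbhd.exists_open_of_isEtaIso ef'
    refine ⟨hpγ', W, K971.EtaNbhd.isSchematicallyDense_of_generic (k ≫ φ) W hW,
      K971.EtaNbhd.isSchematicallyDense_of_generic (γ' ≫ k ≫ φ) _ fun x hx => ?_, hWi⟩
    exact hW _ (by rw [← hx]; exact (Scheme.Hom.comp_apply γ' (k ≫ φ) x).symm)
  have hmd : Md (k ≫ φ) (pullback.snd i k) γ' (j' ≫ σ') d' :=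
    ⟨hj3'.mp, ⟨⟨by rw [Category.assoc, hj1'], hss'.1, hmod, hj3'.ssm.1.2.2.2⟩, hss'⟩, ef', hj3'.ed⟩
  have hcl' : IsClosed ({c'} : Set V') := by
    have h1 := hcl.preimage k.continuous
    have h2 : k ⁻¹' {c} = {c'} := by
      ext z
      exact ⟨fun hz => k.isOpenEmbedding.injective (hz.trans hkc.symm), fun hz => by rw [hz]; exact hkc⟩
    rwa [h2] at h1
  refine Good.of_open k hkc sqi (IH (k ≫ φ) _ γ' (j' ≫ σ') d' hmd c' (by rw [Scheme.Hom.comp_apply, hkc, hc]) hcl' ?_)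
  have hqY : QuasiCompact (γ ≫ φ) := inferInstance
  have hb1 : (bad γ c).Finite := bad_finite hFG φ γ hrY c hcl
  have hb2 : (bad (σ ≫ γ) c).Finite := bad_finite hFG φ (σ ≫ γ) hrX c hcl
  exact (ncard_bad_open hY.w hkc hb1).trans_lt (ncard_bad_contr σ γ σ.isClosedMap
    (K897.Contract.surjective σ hC.iso_app σ.isClosedMap) c T hT y₀ hTy hTn (fun x hx => hTs hx) hTg hb2)

theorem ind (n : ℕ) : ∀ {V DV X DX : Scheme.{u}} [IsAffine V] (φ : V ⟶ Spec (CommRingCat.of R)) (i : DV ⟶ V)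
    (f : X ⟶ V) (iX : DX ⟶ X) (d : DX ⟶ DV) (_ : Md φ i f iX d) (c : V)
    (_ : φ c = IsLocalRing.closedPoint R) (_ : IsClosed ({c} : Set V)) (_ : (bad f c).ncard = n), Good φ i c := by
  induction n using Nat.strong_induction_on with
  | _ n IH =>
  intro V DV X DX _ φ i f iX d h c hc hcl hn
  have hfin : Finite ↥(Spec (CommRingCat.of R)) := inferInstanceAs (Finite (PrimeSpectrum R))
  have hlfp : LocallyOfFinitePresentation φ := h.mp.2.1
  have hpf : IsProper f := h.ssm.1.2.2.1.1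
  have hmp := h.ssm.2.1
  have hqc : QuasiCompact (f ≫ φ) := hmp.2.2.1
  have hlfpX : LocallyOfFinitePresentation (f ≫ φ) := hmp.2.1
  have hrX : Cyc.HasRelDim (f ≫ φ) 1 := hmp.2.2.2.2.1
  obtain ⟨a, hca, ha⟩ := exists_shrink f c _ (hFG (f ≫ φ) hrX)
  let U₀ : V.Opens := V.basicOpen a
  have hU₀ : IsAffine (U₀ : Scheme.{u}) := (isAffineOpen_top V).basicOpen a
  let k₁ : (U₀ : Scheme.{u}) ⟶ V := U₀.ι
  let c₁ : (U₀ : Scheme.{u}) := ⟨c, hca⟩
  have hkc : k₁ c₁ = c := rfl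
  have sqi := IsPullback.of_hasPullback i k₁
  have sqf := IsPullback.of_hasPullback f k₁
  have sqd := IsPullback.of_hasPullback d (pullback.fst i k₁)
  obtain ⟨j, hj1, hj2, h₁⟩ := h.restrict hR k₁ sqi sqf sqd
  have hcl₁ : IsClosed ({c₁} : Set (U₀ : Scheme.{u})) := by
    have h1 := hcl.preimage k₁.continuous
    have h2 : k₁ ⁻¹' {c} = {c₁} := by
      ext z
      exact ⟨fun hz => k₁.isOpenEmbedding.injective (hz.trans hkc.symm), fun hz => by rw [hz]; exact hkc⟩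
    rwa [h2] at h1
  have hb : (bad f c).Finite := bad_finite hFG φ f hrX c hcl
  have hkx : IsOpenImmersion (pullback.fst f k₁) := inferInstance
  have hle : (bad (pullback.snd f k₁) c₁).ncard ≤ (bad f c).ncard := ncard_bad_open sqf.w hkc hb
  have hw : ∀ x, f (pullback.fst f k₁ x) = k₁ (pullback.snd f k₁ x) := fun x => by
    rw [← Scheme.Hom.comp_apply, ← Scheme.Hom.comp_apply, sqf.w]
  have hG : ∀ x x' : ↥(pullback f k₁), x ⤳ x' → x' ≠ x →
      (pullback.snd f k₁ ≫ k₁ ≫ φ) x' = (pullback.snd f k₁ ≫ k₁ ≫ φ) x → pullback.snd f k₁ x ⤳ c₁ := by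
    intro x x' h1 h2 h3
    have e1 : pullback.snd f k₁ ≫ k₁ ≫ φ = pullback.fst f k₁ ≫ f ≫ φ := by
      rw [← Category.assoc, ← sqf.w, Category.assoc]
    have h4 := ha (pullback.fst f k₁ x) ⟨pullback.fst f k₁ x', h1.map (pullback.fst f k₁).continuous,
      fun h => h2 (hkx.base_open.injective h), by
        rw [e1, Scheme.Hom.comp_apply, Scheme.Hom.comp_apply] at h3
        exact h3⟩ (by rw [hw]; exact (pullback.snd f k₁ x).2)
    rw [hw, ← hkc] at h4
    exact k₁.isOpenEmbedding.isInducing.specializes_iff.1 h4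
  refine Good.of_open k₁ hkc sqi ?_
  by_cases hne : SSMod.NoExcComp (k₁ ≫ φ) j (pullback.snd f k₁)
  · refine ⟨_, 𝟙 _, inferInstance, c₁, rfl, _, 𝟙 _, pullback.snd i k₁, IsPullback.of_horiz_isIso ⟨by simp⟩,
      _, _, j, pullback.snd f k₁, pullback.snd d (pullback.fst i k₁), ?_, ?_, ?_⟩
    · rw [Category.id_comp]
      exact ⟨h₁.ssm, hne⟩
    · rw [Category.id_comp]
      exact h₁.ef
    · rw [Category.id_comp]
      exact h₁.ed
  · refine step hN hTD hSt hR hFG hE R (k₁ ≫ φ) _ _ _ _ h₁ c₁ (by rw [Scheme.Hom.comp_apply, hkc, hc]) hcl₁ hG hne ?_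
    intro V' DV' X' DX' _ φ' i' f' iX' d' hmd c' hc' hcl' hlt
    exact IH _ (hn ▸ hlt.trans_le hle) φ' i' f' iX' d' hmd c' hc' hcl' rfl

end

end K755.Ind
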