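import Groth.Agent.SSMod.K755.Plan4
import Groth.Agent.SSMod.K971.BaseChange
import Groth.Agent.SSMod.K971.Restrict
import Groth.Agent.S1591
import Groth.Agent.Smoothlim.SmoothLocusBC

/-!
# The contraction of `T` is nodal near `c`
-/

set_option autoImplicit false
universe u
open CategoryTheory CategoryTheory.Limits AlgebraicGeometry TopologicalSpace

namespace K755.Nodal1

open Groth.Agent SSPlan

/-- points of a pullback -/
theorem exists_pt {X Y S Z : Scheme.{u}} {a : Z ⟶ X} {b : Z ⟶ Y} {f : X ⟶ S} {g : Y ⟶ S} (h : IsPullback a b f g)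
    {x : X} {y : Y} (hxy : f x = g y) : ∃ z : Z, a z = x := by
  have h1 := K971.SSRestrict.range_of_isPullback h
  have h2 : x ∈ Set.range a.base := by
    rw [h1]
    exact ⟨y, hxy.symm⟩
  exact h2

theorem dim_le {S X : Scheme.{u}} (p : X ⟶ S) (h : Cyc.HasRelDim p 1) (s : S) :
    topologicalKrullDim ↥(p.fiber s) ≤ 1 :=
  CurvesB.NodeSch2.topologicalKrullDim_le_one_of_components fun Z hZ => by
    have := h s Z hZ
    simpa using this

/-- closedness of points along a closed immersion -/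
theorem isClosed_iff {X Y : Scheme.{u}} (j : Y ⟶ X) [IsClosedImmersion j] (y : Y) :
    IsClosed ({y} : Set Y) ↔ IsClosed ({j y} : Set X) := by
  constructor
  · intro h
    have h1 := j.isClosedEmbedding.isClosedMap _ h
    rwa [Set.image_singleton] at h1
  · intro h
    have h1 := h.preimage j.continuous
    have h2 : j ⁻¹' {j y} = {y} := by
      ext z
      exact ⟨fun hz => j.isClosedEmbedding.injective hz, fun hz => congrArg j hz⟩
    rwa [h2] at h1

theorem core (hK : NodalK.{u}) (hS : SSOpen.{u}) (hM : MarkImm.{u})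
    (R : Type u) [CommRing R] [IsDomain R] [ValuationRing R] [IsAlgClosed (FractionRing R)]
    {V X Y D : Scheme.{u}} [IsAffine V] (φ : V ⟶ Spec (CommRingCat.of R)) [LocallyOfFinitePresentation φ]
    (σ : X ⟶ Y) (g : Y ⟶ V) (i : D ⟶ X) (hss : SSMod.IsSemistable (σ ≫ g ≫ φ) i) [IsProper σ] [IsProper g]
    (hfl : Flat (g ≫ φ)) (hlfp : LocallyOfFinitePresentation (g ≫ φ)) (hrd : Cyc.HasRelDim (g ≫ φ) 1)
    (c : V) (hc : φ c = IsLocalRing.closedPoint R) (hcl : IsClosed ({c} : Set V))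
    (y₀ : Y) (hy₀ : IsClosed ({y₀} : Set Y)) (hgy : g y₀ = c)
    (hgen : ∀ x, σ x = y₀ → ∃ ξ, σ ξ = y₀ ∧ ξ ⤳ x ∧ ¬ IsClosed ({ξ} : Set X))
    (hfin : ∀ y : Y, φ (g y) = IsLocalRing.closedPoint R → IsClosed ({y} : Set Y) → y ≠ y₀ →
      (σ ⁻¹' {y} : Set X).Finite)
    (hout : {x : X | σ x = y₀ ∧ (x ∈ closure ((σ ≫ g ≫ φ) ⁻¹' {IsLocalRing.closedPoint R} \ σ ⁻¹' {y₀}) ∨
      x ∈ Set.range (i.base : D → X))}.encard ≤ 2)
    {k : Type u} [Field k] [IsAlgClosed k] (t : Spec (CommRingCat.of k) ⟶ Spec (CommRingCat.of R))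
    [IsClosedImmersion t] (ht : ∀ z, t z = IsLocalRing.closedPoint R)
    {Ys Xs Ds : Scheme.{u}} {pY : Ys ⟶ Y} {q : Ys ⟶ Spec (CommRingCat.of k)} (hY : IsPullback pY q (g ≫ φ) t)
    {pX : Xs ⟶ X} {σs : Xs ⟶ Ys} (hX : IsPullback pX σs σ pY) {pD : Ds ⟶ D} {is : Ds ⟶ Xs}
    (hD : IsPullback pD is i pX) (hO : ∀ U : Ys.Opens, IsIso (σs.app U)) :
    ∃ U : V.Opens, IsAffineOpen U ∧ c ∈ U ∧ SSMod.IsSemistable ((g ∣_ U) ≫ U.ι ≫ φ) ((i ≫ σ) ∣_ (g ⁻¹ᵁ U)) := by
  have hci : IsClosedImmersion i := hss.1.2.2.2.2.2.1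
  have hcY : IsClosedImmersion pY := MorphismProperty.of_isPullback hY.flip ‹_›
  have hcX : IsClosedImmersion pX := MorphismProperty.of_isPullback hX.flip hcY
  have hcD : IsClosedImmersion pD := MorphismProperty.of_isPullback hD.flip hcX
  have hpσ : IsProper σs := MorphismProperty.of_isPullback (P := @IsProper) hX inferInstance
  have hlt : LocallyOfFiniteType q := MorphismProperty.of_isPullback (P := @LocallyOfFiniteType) hY inferInstance
  have hiY : Function.Injective pY := pY.isClosedEmbedding.injective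
  have hiX : Function.Injective pX := pX.isClosedEmbedding.injective
  obtain ⟨z₀⟩ : Nonempty (Spec (CommRingCat.of k)) := inferInstance
  have hsX : ∀ x : Xs, pY (σs x) = σ (pX x) := fun x => by
    rw [← Scheme.Hom.comp_apply, ← Scheme.Hom.comp_apply, hX.w]
  have hsD : ∀ d : Ds, pX (is d) = i (pD d) := fun d => by
    rw [← Scheme.Hom.comp_apply, ← Scheme.Hom.comp_apply, hD.w]
  have hqY : ∀ y : Ys, φ (g (pY y)) = IsLocalRing.closedPoint R := fun y => by
    have h1 : (pY ≫ g ≫ φ) y = (q ≫ t) y := by rw [hY.w]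
    rw [Scheme.Hom.comp_apply, Scheme.Hom.comp_apply, Scheme.Hom.comp_apply] at h1
    rw [h1, ht]
  -- lifting points
  have liftY : ∀ y : Y, φ (g y) = IsLocalRing.closedPoint R → ∃ y' : Ys, pY y' = y := fun y hy =>
    exists_pt hY (y := z₀) (by rw [Scheme.Hom.comp_apply, hy, ht])
  have liftX : ∀ x : X, φ (g (σ x)) = IsLocalRing.closedPoint R → ∃ x' : Xs, pX x' = x := fun x hx => by
    obtain ⟨y', hy'⟩ := liftY (σ x) hx
    exact exists_pt hX hy'.symm
  have liftD : ∀ d : D, φ (g (σ (i d))) = IsLocalRing.closedPoint R → ∃ d' : Ds, pD d' = d := fun d hd => by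
    obtain ⟨x', hx'⟩ := liftX (i d) hd
    exact exists_pt hD hx'.symm
  obtain ⟨y₀', rfl⟩ := liftY y₀ (by rw [hgy, hc])
  have hy₀' : IsClosed ({y₀'} : Set Ys) := (isClosed_iff pY y₀').2 hy₀
  have hss' : SSMod.IsSemistable (σs ≫ q) is :=
    K971.SSBaseChange.isSemistable_of_isPullback hss (hX.paste_vert hY) hD
  have hrd' : Cyc.HasRelDim q 1 := K308.Grp.hasRelDim_of_isPullback hY.flip hrd
  have hfib : ∀ y : Ys, σs ⁻¹' {y} = pX ⁻¹' (σ ⁻¹' {pY y}) := fun y => by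
    ext x
    simp only [Set.mem_preimage, Set.mem_singleton_iff]
    rw [← hsX]
    exact ⟨fun h => by rw [h], fun h => hiY h⟩
  have H1 : ∀ x, σs x = y₀' → ∃ ξ, σs ξ = y₀' ∧ ξ ⤳ x ∧ ¬ IsClosed ({ξ} : Set Xs) := by
    intro x hx
    obtain ⟨ξ, h1, h2, h3⟩ := hgen (pX x) (by rw [← hsX, hx])
    obtain ⟨ξ', rfl⟩ := liftX ξ (by rw [h1, hqY])
    refine ⟨ξ', hiY (by rw [hsX, h1]), pX.isClosedEmbedding.isInducing.specializes_iff.1 h2, fun h => h3 ?_⟩
    exact (isClosed_iff pX ξ').1 h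
  have H2 : ∀ y, IsClosed ({y} : Set Ys) → y ≠ y₀' → (σs ⁻¹' {y} : Set Xs).Finite := by
    intro y hy hne
    rw [hfib y]
    refine (hfin (pY y) (hqY y) ((isClosed_iff pY y).1 hy) fun h => hne (hiY h)).preimage hiX.injOn
  have H3 : {x : Xs | σs x = y₀' ∧ (x ∈ closure (σs ⁻¹' {y₀'} : Set Xs)ᶜ ∨
      x ∈ Set.range (is.base : Ds → Xs))}.encard ≤ 2 := by
    refine (Set.encard_le_encard_of_injOn (f := pX) ?_ hiX.injOn).trans hout
    rintro x ⟨h1, h2⟩
    refine ⟨by rw [← hsX, h1], ?_⟩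
    rcases h2 with h2 | ⟨d, rfl⟩
    · left
      refine closure_mono ?_ (image_closure_subset_closure_image pX.continuous ⟨x, h2, rfl⟩)
      rintro _ ⟨z, hz, rfl⟩
      refine ⟨?_, fun hz' => hz ?_⟩
      · change (σ ≫ g ≫ φ) (pX z) = _
        rw [Scheme.Hom.comp_apply, Scheme.Hom.comp_apply, ← hsX, hqY]
      · have hz'' : σ (pX z) = pY y₀' := hz'
        exact hiY (by rw [hsX, hz''])
    · right
      exact ⟨pD d, (hsD d).symm⟩
  obtain ⟨hn, hd, hsub⟩ := hK k q σs is hss' hO hrd' y₀' hy₀' H1 H2 H3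
  refine hS hM R φ g hfl hlfp (i ≫ σ) ?_ c hc hcl ?_ ?_ ?_
  · have := hss.2.2.1
    rwa [Category.assoc]
  · intro y hy hycl
    obtain ⟨y', rfl⟩ := liftY y (by rw [hy, hc])
    refine ⟨S1591.nodalLocus (g ≫ φ), ?_, S1591.isNodalFamily_nodalLocus _⟩
    have h1 := S1591.nodalLocus_of_isPullback hY
    have h2 : (⊤ : Ys.Opens) ≤ S1591.nodalLocus q := by
      exact S1591.le_nodalLocus _ _ (CurvesB.NodalEtale.isNodalFamily_precomp_etale _ _ hn)
    rw [h1] at h2
    exact h2 (Set.mem_univ y')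
  · intro y hy hycl
    obtain ⟨y', rfl⟩ := liftY y (by rw [hy, hc])
    intro d₁ hd₁ d₂ hd₂
    have hd₁' : σ (i d₁) = pY y' := hd₁
    have hd₂' : σ (i d₂) = pY y' := hd₂
    obtain ⟨e₁, rfl⟩ := liftD d₁ (by rw [hd₁', hqY])
    obtain ⟨e₂, rfl⟩ := liftD d₂ (by rw [hd₂', hqY])
    congr 1
    refine hsub y' ((isClosed_iff pY y').2 hycl) ?_ ?_
    · apply hiY
      change pY (σs (is e₁)) = _
      rw [hsX, hsD, hd₁']
    · apply hiY
      change pY (σs (is e₂)) = _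
      rw [hsX, hsD, hd₂']
  · intro d hd1 _
    obtain ⟨e, rfl⟩ := liftD d (by rw [show g (σ (i d)) = c from hd1, hc])
    have h1 : (is ≫ σs) e ∉ DualGr.nonsmoothPts q := fun h => Set.disjoint_left.1 hd ⟨e, rfl⟩ h
    have hlq : LocallyOfFinitePresentation q :=
      MorphismProperty.of_isPullback (P := @LocallyOfFinitePresentation) hY inferInstance
    have h2 : (is ≫ σs) e ∈ q.smoothLocus := not_not.1 h1
    rw [Smoothlim.SmoothLocusBC.mem_smoothLocus_iff_of_isPullback hY _ (Or.inl (Flat.stalkMap _ _))] at h2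
    have h3 : pY ((is ≫ σs) e) = (i ≫ σ) (pD e) := by
      change pY (σs (is e)) = σ (i (pD e))
      rw [hsX, hsD]
    rw [h3] at h2
    exact fun h => h h2

end K755.Nodal1
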