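import Groth.Agent.SSMod.K755.Plan

/-!
# Interfaces, second part: the Stein factorization contracting `T`
-/

set_option autoImplicit false
universe u
open CategoryTheory CategoryTheory.Limits AlgebraicGeometry TopologicalSpace

namespace K755.SSPlan

/-- `σ : X ⟶ Y` over `V` with `σ_* O_X = O_Y`, `Y` proper over `V` and flat, finitely presented over `S`. -/
structure Ctn {S V X Y : Scheme.{u}} (φ : V ⟶ S) (f : X ⟶ V) (σ : X ⟶ Y) (g : Y ⟶ V) : Prop where
  fac : σ ≫ g = f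
  proper_σ : IsProper σ
  proper_g : IsProper g
  flat : Flat (g ≫ φ)
  lfp : LocallyOfFinitePresentation (g ≫ φ)
  iso_app : ∀ U : Y.Opens, IsIso (σ.app U)

/-- STEIN: (from `GG`, `Div`, `Fin`) a connected union `T` of one-dimensional components of the fibre over a point `c`
of the closed fibre is contracted by some `σ : X ⟶ Y` over `V` which contracts nothing else over `c`. -/
def Stein : Prop := ∀ (R : Type u) [CommRing R] [IsDomain R] [ValuationRing R] [Finite (PrimeSpectrum R)]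
    [IsAlgClosed (FractionRing R)]
    {V X : Scheme.{u}} [IsAffine V] (φ : V ⟶ Spec (CommRingCat.of R)) [LocallyOfFinitePresentation φ]
    (f : X ⟶ V) [IsProper f] (_ : Curv2.IsNodalFamily (f ≫ φ))
    (c : V) (_ : φ c = IsLocalRing.closedPoint R) (_ : IsClosed ({c} : Set V))
    (T : Set X) (_ : IsClosed T) (_ : T.Nonempty) (_ : T ⊆ f ⁻¹' {c}) (_ : _root_.IsPreconnected T)
    (_ : ∀ x ∈ T, ∃ ξ ∈ T, ξ ⤳ x ∧ ¬ IsClosed ({ξ} : Set X)),
    ∃ (Y : Scheme.{u}) (σ : X ⟶ Y) (g : Y ⟶ V), Ctn φ f σ g ∧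
      ∃ y₀ : Y, σ ⁻¹' {y₀} = T ∧
        ∀ y : Y, g y = c → y ≠ y₀ → IsClosed ({y} : Set Y) → ∃ x : X, σ ⁻¹' {y} = {x}

end K755.SSPlan
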