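import Groth.Agent.SSMod.K755.Plan2

/-!
# Interfaces, third part: four small nodes of the assembly
-/

set_option autoImplicit false
universe u
open CategoryTheory CategoryTheory.Limits AlgebraicGeometry TopologicalSpace

namespace K755.SSPlan

/-- FIBH1: `H¹` of the scheme-theoretic fibre vanishes when `H¹(T, O) = 0`, `T` the fibre with its reduced structure,
a union of one-dimensional components of the closed fibre of a nodal family. -/
def FibH1 : Prop := ∀ (R : Type u) [CommRing R] [IsDomain R] [ValuationRing R] [IsAlgClosed (FractionRing R)]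
    {X Y : Scheme.{u}} (σ : X ⟶ Y) (ψ : Y ⟶ Spec (CommRingCat.of R)) [IsProper σ] [LocallyOfFiniteType ψ]
    (_ : Curv2.IsNodalFamily (σ ≫ ψ)) (y : Y) (_ : ψ y = IsLocalRing.closedPoint R)
    (_ : IsClosed ({y} : Set Y)) (T : Set X) (hT : IsClosed T) (_ : σ ⁻¹' {y} = T)
    (_ : ∀ x ∈ T, ∃ ξ ∈ T, ξ ⤳ x ∧ ¬ IsClosed ({ξ} : Set X))
    (_ : Subsingleton (Coh.HH (Scheme.IdealSheafData.vanishingIdeal (⟨T, hT⟩ : Closeds X)).subscheme
      (Coh.structureModule (Scheme.IdealSheafData.vanishingIdeal (⟨T, hT⟩ : Closeds X)).subscheme) 1)),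
    Subsingleton (Coh.HH (σ.fiber y) (Coh.structureModule (σ.fiber y)) 1)

/-- MARKIMM: a proper `j : D ⟶ Y` with `D` etale over the base is a closed immersion near a closed point `y` of the
closed fibre with at most one preimage. -/
def MarkImm : Prop := ∀ (R : Type u) [CommRing R] [IsDomain R] [ValuationRing R] [IsAlgClosed (FractionRing R)]
    {Y D : Scheme.{u}} (ψ : Y ⟶ Spec (CommRingCat.of R)) [LocallyOfFiniteType ψ] (j : D ⟶ Y) [IsProper j]
    (_ : Etale (j ≫ ψ)) (y : Y) (_ : ψ y = IsLocalRing.closedPoint R) (_ : IsClosed ({y} : Set Y))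
    (_ : (j ⁻¹' {y} : Set D).Subsingleton), ∃ U : Y.Opens, y ∈ U ∧ IsClosedImmersion (j ∣_ U)

/-- POSTOPEN: a stable modification over an open subscheme of the base is one over the base. -/
def PostOpen : Prop := ∀ {S₀ S C D Cst Dst : Scheme.{u}} [IsIntegral S₀] [IsIntegral S] (j : S₀ ⟶ S)
    [IsOpenImmersion j] [QuasiCompact j] (φ : C ⟶ S₀) (i : D ⟶ C) (ist : Dst ⟶ Cst) (fC : Cst ⟶ C)
    (fD : Dst ⟶ D) (_ : SSMod.IsStableModification φ i ist fC fD) (_ : SSMod.IsEtaIso φ fC)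
    (_ : SSMod.IsEtaIso (i ≫ φ) fD),
    SSMod.IsStableModification (φ ≫ j) i ist fC fD ∧ SSMod.IsEtaIso (φ ≫ j) fC ∧
      SSMod.IsEtaIso (i ≫ φ ≫ j) fD

/-- RESTR: a semistable modification which is an isomorphism on generic fibres restricts along open immersions. -/
def Restr : Prop := ∀ {S C D C' D' V DV X DX : Scheme.{u}} [IsIntegral S] (φ : C ⟶ S) (i : D ⟶ C)
    (_ : SSMod.IsMPCurve φ i) (i' : D' ⟶ C') (gC : C' ⟶ C) (gD : D' ⟶ D)
    (_ : SSMod.IsSemistableModification φ i i' gC gD) (_ : SSMod.IsEtaIso φ gC)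
    (_ : SSMod.IsEtaIso (i ≫ φ) gD) (j : V ⟶ C) [IsOpenImmersion j] (_ : QuasiCompact (j ≫ φ))
    (_ : QuasiSeparated (j ≫ φ)) (jD : DV ⟶ D) (iV : DV ⟶ V) (_ : IsPullback jD iV i j)
    (j' : X ⟶ C') (f : X ⟶ V) (_ : IsPullback j' f gC j) (jD' : DX ⟶ D') (d : DX ⟶ DV)
    (_ : IsPullback jD' d gD jD) (iX : DX ⟶ X) (_ : iX ≫ j' = jD' ≫ i') (_ : iX ≫ f = d ≫ iV),
    SSMod.IsSemistableModification (j ≫ φ) iV iX f d ∧ SSMod.IsEtaIso (j ≫ φ) f ∧
      SSMod.IsEtaIso (iV ≫ j ≫ φ) d ∧ IsPullback jD' iX i' j'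

end K755.SSPlan
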