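import Groth.Agent.SSMod.K755.Plan3

/-!
# Interfaces, fourth part: the pieces of NODAL
-/

set_option autoImplicit false
universe u
open CategoryTheory CategoryTheory.Limits AlgebraicGeometry TopologicalSpace

namespace K755.SSPlan

/-- NODALK: over an algebraically closed field, `σ : X ⟶ Y` with `σ_* O_X = O_Y`, `(X, D)` semistable, `σ` finite
outside `y₀`, `σ⁻¹(y₀)` a union of components of `X` which carries at most two points which are marked or lie on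
the rest of `X`. Then `Y` is nodal and the marked points are distinct smooth points of `Y`. -/
def NodalK : Prop := ∀ (k : Type u) [Field k] [IsAlgClosed k] {X Y D : Scheme.{u}}
    (q : Y ⟶ Spec (CommRingCat.of k)) [LocallyOfFiniteType q] (σ : X ⟶ Y) [IsProper σ] (i : D ⟶ X)
    (_ : SSMod.IsSemistable (σ ≫ q) i) (_ : ∀ U : Y.Opens, IsIso (σ.app U)) (_ : Cyc.HasRelDim q 1)
    (y₀ : Y) (_ : IsClosed ({y₀} : Set Y))
    (_ : ∀ x, σ x = y₀ → ∃ ξ, σ ξ = y₀ ∧ ξ ⤳ x ∧ ¬ IsClosed ({ξ} : Set X))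
    (_ : ∀ y, IsClosed ({y} : Set Y) → y ≠ y₀ → (σ ⁻¹' {y} : Set X).Finite)
    (_ : {x : X | σ x = y₀ ∧ (x ∈ closure (σ ⁻¹' {y₀} : Set X)ᶜ ∨
      x ∈ Set.range (i.base : D → X))}.encard ≤ 2),
    Curv2.IsNodalFamily q ∧ Disjoint (Set.range ((i ≫ σ).base : D → Y)) (DualGr.nonsmoothPts q) ∧
      ∀ y : Y, IsClosed ({y} : Set Y) → ((i ≫ σ) ⁻¹' {y} : Set D).Subsingleton

/-- SSOPEN: semistability near a point `c` of the closed fibre, from the closed points over `c`. -/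
def SSOpen : Prop := MarkImm.{u} → ∀ (R : Type u) [CommRing R] [IsDomain R] [ValuationRing R]
    [IsAlgClosed (FractionRing R)] {V Y D : Scheme.{u}} [IsAffine V] (φ : V ⟶ Spec (CommRingCat.of R))
    [LocallyOfFinitePresentation φ] (g : Y ⟶ V) [IsProper g] (_ : Flat (g ≫ φ))
    (_ : LocallyOfFinitePresentation (g ≫ φ)) (j : D ⟶ Y) [IsProper j] (_ : Etale (j ≫ g ≫ φ))
    (c : V) (_ : φ c = IsLocalRing.closedPoint R) (_ : IsClosed ({c} : Set V))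
    (_ : ∀ y : Y, g y = c → IsClosed ({y} : Set Y) →
      ∃ W : Y.Opens, y ∈ W ∧ Curv2.IsNodalFamily (W.ι ≫ g ≫ φ))
    (_ : ∀ y : Y, g y = c → IsClosed ({y} : Set Y) → (j ⁻¹' {y} : Set D).Subsingleton)
    (_ : ∀ d : D, g (j d) = c → IsClosed ({j d} : Set Y) → j d ∉ DualGr.nonsmoothPts (g ≫ φ)),
    ∃ U : V.Opens, IsAffineOpen U ∧ c ∈ U ∧ SSMod.IsSemistable ((g ∣_ U) ≫ U.ι ≫ φ) (j ∣_ (g ⁻¹ᵁ U))

/-- ETAY: the contraction does not change the generic fibre. -/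
def EtaY : Prop := ∀ (R : Type u) [CommRing R] [IsDomain R] [ValuationRing R]
    {V X Y : Scheme.{u}} (φ : V ⟶ Spec (CommRingCat.of R)) [LocallyOfFiniteType φ] (f : X ⟶ V) (σ : X ⟶ Y)
    (g : Y ⟶ V) (_ : Ctn φ f σ g) (_ : SSMod.IsEtaIso φ f) (_ : Cyc.HasRelDim (f ≫ φ) 1),
    SSMod.IsEtaIso φ g ∧ SSMod.IsEtaIso (g ≫ φ) σ ∧ Cyc.HasRelDim (g ≫ φ) 1

end K755.SSPlan
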