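import Groth.Agent.SSMod.K755.NodalStmt
import Groth.Agent.SSMod.K755.GenPt
import Groth.Agent.SSMod.K971.Restrict
import Groth.Agent.SSMod.K971.RestrictCurve
import Groth.Agent.SSMod.K971.EtaNbhd

/-!
# Local modifications and their restrictions
-/

set_option autoImplicit false
universe u
open CategoryTheory CategoryTheory.Limits AlgebraicGeometry TopologicalSpace

namespace K755.Step

open Groth.Agent SSPlan

/-- a semistable modification `(X, DX) → (V, DV)` which is an isomorphism over the generic point -/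
structure Md {S V DV X DX : Scheme.{u}} [IsIntegral S] (φ : V ⟶ S) (i : DV ⟶ V) (f : X ⟶ V) (iX : DX ⟶ X)
    (d : DX ⟶ DV) : Prop where
  mp : SSMod.IsMPCurve φ i
  ssm : SSMod.IsSemistableModification φ i iX f d
  ef : SSMod.IsEtaIso φ f
  ed : SSMod.IsEtaIso (i ≫ φ) d

/-- there is a stable modification locally around `c` -/
def Good {S V DV : Scheme.{u}} [IsIntegral S] (φ : V ⟶ S) (i : DV ⟶ V) (c : V) : Prop :=
  ∃ (V' : Scheme.{u}) (k : V' ⟶ V) (_ : IsOpenImmersion k) (c' : V') (_ : k c' = c) (D' : Scheme.{u})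
    (kD : D' ⟶ DV) (i' : D' ⟶ V') (_ : IsPullback kD i' i k) (CV DC : Scheme.{u}) (iC : DC ⟶ CV) (fC : CV ⟶ V')
    (dC : DC ⟶ D'), SSMod.IsStableModification (k ≫ φ) i' iC fC dC ∧ SSMod.IsEtaIso (k ≫ φ) fC ∧
      SSMod.IsEtaIso (i' ≫ k ≫ φ) dC

theorem Good.of_open {S V DV V₁ DV₁ : Scheme.{u}} [IsIntegral S] {φ : V ⟶ S} {i : DV ⟶ V} (k₁ : V₁ ⟶ V)
    [IsOpenImmersion k₁] {c : V} {c₁ : V₁} (hc : k₁ c₁ = c) {kD₁ : DV₁ ⟶ DV} {i₁ : DV₁ ⟶ V₁}
    (sq : IsPullback kD₁ i₁ i k₁) (h : Good (k₁ ≫ φ) i₁ c₁) : Good φ i c := by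
  obtain ⟨V', k, hk, c', hc', D', kD, i', sq', CV, DC, iC, fC, dC, h1, h2, h3⟩ := h
  refine ⟨V', k ≫ k₁, inferInstance, c', by rw [Scheme.Hom.comp_apply, hc', hc], D', kD ≫ kD₁, i',
    sq'.paste_horiz sq, CV, DC, iC, fC, dC, ?_, ?_, ?_⟩
  · rw [Category.assoc]
    exact h1
  · rw [Category.assoc]
    exact h2
  · rw [Category.assoc]
    exact h3

section Restrict

variable {R : Type u} [CommRing R] [IsDomain R] {V DV X DX : Scheme.{u}}
  {φ : V ⟶ Spec (CommRingCat.of R)} {i : DV ⟶ V} {f : X ⟶ V} {iX : DX ⟶ X} {d : DX ⟶ DV}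

/-- restriction of a modification to an affine open -/
theorem Md.restrict (hR : Restr.{u}) (h : Md φ i f iX d) {V' : Scheme.{u}} [IsAffine V'] (k : V' ⟶ V)
    [IsOpenImmersion k] {DV' X' DX' : Scheme.{u}} {kD : DV' ⟶ DV} {i' : DV' ⟶ V'} (sqi : IsPullback kD i' i k)
    {kX : X' ⟶ X} {f' : X' ⟶ V'} (sqf : IsPullback kX f' f k) {kDX : DX' ⟶ DX} {d' : DX' ⟶ DV'}
    (sqd : IsPullback kDX d' d kD) :
    ∃ iX' : DX' ⟶ X', iX' ≫ f' = d' ≫ i' ∧ IsPullback kDX iX' iX kX ∧ Md (k ≫ φ) i' f' iX' d' := by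
  have hsq : (kDX ≫ iX) ≫ f = (d' ≫ i') ≫ k := by
    rw [Category.assoc, h.ssm.1.1, ← Category.assoc, sqd.w, Category.assoc, sqi.w, Category.assoc]
  have h1 := sqf.lift_fst _ _ hsq
  have h2 := sqf.lift_snd _ _ hsq
  obtain ⟨a1, a2, a3, a4⟩ := hR φ i h.mp iX f d h.ssm h.ef h.ed k inferInstance inferInstance kD i' sqi kX f' sqf
    kDX d' sqd _ h1 h2
  exact ⟨_, h2, a4, K971.SSRestrict.isMPCurve_restrict h.mp sqi inferInstance inferInstance, a1, a2, a3⟩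

end Restrict

/-- the non-closed points over `c` -/
def bad {X V : Scheme.{u}} (f : X ⟶ V) (c : V) : Set X := {x | f x = c ∧ ¬ IsClosed ({x} : Set X)}

theorem bad_finite (hF : FinGen.{u}) {S V X : Scheme.{u}} [Finite S] (φ : V ⟶ S) (f : X ⟶ V)
    [LocallyOfFiniteType (f ≫ φ)] [QuasiCompact (f ≫ φ)] (hr : Cyc.HasRelDim (f ≫ φ) 1) (c : V)
    (hc : IsClosed ({c} : Set V)) : (bad f c).Finite := by
  refine (hF (f ≫ φ) hr).subset ?_
  rintro x ⟨hx, hcl⟩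
  have : ∃ x' : X, x ⤳ x' ∧ x' ≠ x := by
    by_contra hcon
    push_neg at hcon
    apply hcl
    have h1 : closure ({x} : Set X) = {x} :=
      Set.Subset.antisymm (fun z hz => hcon z (specializes_iff_mem_closure.2 hz)) subset_closure
    rw [← h1]
    exact isClosed_closure
  obtain ⟨x', h1, h2⟩ := this
  refine ⟨x', h1, h2, ?_⟩
  have h3 : f x' = c := (h1.map f.continuous).mem_closed hc hx
  rw [Scheme.Hom.comp_apply, Scheme.Hom.comp_apply, h3, hx]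

theorem bad_open {V V' X X' : Scheme.{u}} {f : X ⟶ V} {f' : X' ⟶ V'} {kX : X' ⟶ X} {k : V' ⟶ V}
    [IsOpenImmersion kX] (w : kX ≫ f = f' ≫ k) {c : V} {c' : V'} (hc : k c' = c) :
    kX '' bad f' c' ⊆ bad f c := by
  rintro _ ⟨x, ⟨hx, hcl⟩, rfl⟩
  refine ⟨?_, fun h => hcl ?_⟩
  · rw [← Scheme.Hom.comp_apply, w, Scheme.Hom.comp_apply, hx, hc]
  · have h1 := h.preimage kX.continuous
    have h2 : kX ⁻¹' {kX x} = {x} := by
      ext z
      exact ⟨fun hz => kX.isOpenEmbedding.injective hz, fun hz => congrArg kX hz⟩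
    rwa [h2] at h1

theorem ncard_bad_open {V V' X X' : Scheme.{u}} {f : X ⟶ V} {f' : X' ⟶ V'} {kX : X' ⟶ X} {k : V' ⟶ V}
    [IsOpenImmersion kX] (w : kX ≫ f = f' ≫ k) {c : V} {c' : V'} (hc : k c' = c) (hfin : (bad f c).Finite) :
    (bad f' c').ncard ≤ (bad f c).ncard := by
  rw [← Set.ncard_image_of_injective (bad f' c') kX.isOpenEmbedding.injective]
  exact Set.ncard_le_ncard (bad_open w hc) hfin

/-- A contraction has fewer non-closed points over `c`. -/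
theorem ncard_bad_contr {V X Y : Scheme.{u}} (σ : X ⟶ Y) (g : Y ⟶ V) (hcl : IsClosedMap σ)
    (hs : Function.Surjective σ) (c : V) (T : Set X) (hT : IsClosed T) (y₀ : Y) (hTy : σ ⁻¹' {y₀} = T)
    (hTn : T.Nonempty) (hTc : ∀ x ∈ T, g (σ x) = c)
    (hgen : ∀ x ∈ T, ∃ ξ ∈ T, ξ ⤳ x ∧ ¬ IsClosed ({ξ} : Set X)) (hfin : (bad (σ ≫ g) c).Finite) :
    (bad g c).ncard < (bad (σ ≫ g) c).ncard := by
  obtain ⟨s, hs'⟩ := hs.hasRightInverse
  have hy₀ : IsClosed ({y₀} : Set Y) := by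
    have h1 := hcl _ hT
    obtain ⟨x₀, hx₀⟩ := hTn
    rw [← hTy] at h1 hx₀
    rwa [Set.image_preimage_eq_of_subset (Set.singleton_subset_iff.2 ⟨x₀, hx₀⟩)] at h1
  have hsub : s '' bad g c ⊆ bad (σ ≫ g) c \ T := by
    rintro _ ⟨y, ⟨hy, hyc⟩, rfl⟩
    refine ⟨⟨?_, fun h => hyc ?_⟩, fun h => hyc ?_⟩
    · rw [Scheme.Hom.comp_apply, hs', hy]
    · have h1 := hcl _ h
      rwa [Set.image_singleton, hs'] at h1
    · rw [← hTy] at h
      have h1 : σ (s y) = y₀ := h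
      rw [hs'] at h1
      rwa [h1]
  obtain ⟨x₀, hx₀⟩ := hTn
  obtain ⟨ξ, h1, -, h3⟩ := hgen x₀ hx₀
  have hξ : ξ ∈ bad (σ ≫ g) c := ⟨by rw [Scheme.Hom.comp_apply, hTc ξ h1], h3⟩
  rw [← Set.ncard_image_of_injective (bad g c) hs'.injective]
  refine Set.ncard_lt_ncard ⟨fun x hx => (hsub hx).1, fun h => ?_⟩ hfin
  exact (hsub (h hξ)).2 h1

end K755.Step
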